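import Groth.Agent.Lib.QCoh.Helper50_FTIdeal
import Groth.Agent.Lib.QCoh.Helper50_SubExtQcqs

/-!
# Finite type sub-ideal sheaves through given sections (helper39)
-/

set_option autoImplicit false
universe u
open AlgebraicGeometry CategoryTheory TopologicalSpace Opposite

namespace Groth.Agent.Lib.Helper39.ThickAff

open Groth.Agent.Lib.QCoh

variable {X : Scheme.{u}}

/-- On a qcqs scheme, every section of an ideal sheaf over an affine open lies in a sub-ideal
sheaf all of whose ideals on affine opens are finitely generated. -/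
theorem exists_fg_le_of_mem [CompactSpace X] [QuasiSeparatedSpace X] (I : X.IdealSheafData)
    (V : X.affineOpens) (ν : Γ(X, V.1)) (hν : ν ∈ I.ideal V) :
    ∃ J : X.IdealSheafData, J ≤ I ∧ (∀ U : X.affineOpens, (J.ideal U).FG) ∧ ν ∈ J.ideal V := by
  set s : Γ(ClSub.idealMod I, V.1) := (EffCartier74.idealModΓEquivIdeal I V).symm ⟨ν, hν⟩ with hs
  obtain ⟨G', i', _, hqc, hft, g, hg⟩ :=
    SubExtQ.exists_subsheaf_through_section (ClSub.idealMod I) V.1 V.2.isCompact s
  have := hqc
  have := hft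
  refine ⟨FTIdeal.ofHom (i' ≫ ClSub.idealModι I), ?_, ?_, ?_⟩
  · intro U a ha
    obtain ⟨t, rfl⟩ := ha
    change (show Γ(X, U.1) from (ClSub.idealModι I).app U.1 (i'.app U.1 t)) ∈ I.ideal U
    rw [FTIdeal.idealModι_app_eq]
    exact Subtype.mem _
  · intro U
    exact FTIdeal.fg_rangeIdeal (i' ≫ ClSub.idealModι I) U.2
  · refine ⟨g, ?_⟩
    change (show Γ(X, V.1) from (ClSub.idealModι I).app V.1 (i'.app V.1 g)) = ν
    rw [hg, FTIdeal.idealModι_app_eq, hs, LinearEquiv.apply_symm_apply]

end Groth.Agent.Lib.Helper39.ThickAff
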