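import Groth.Agent.Lib.Helper39.ThickAff.Nilp
import Groth.Agent.Lib.Helper39.ThickAff.FTSub

/-!
# A thickening of an affine scheme is affine: the general case (helper39)

`isAffine_of_surjective`: if `t : X ⟶ X'` is a surjective closed immersion and `X` is affine then
`X'` is affine (no nilpotence / noetherian hypothesis).
-/

set_option autoImplicit false
universe u
open AlgebraicGeometry CategoryTheory TopologicalSpace Opposite

namespace Groth.Agent.Lib.Helper39.ThickAff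

section Glue

theorem scheme_glue (X : Scheme.{u}) {ι : Type*} (U : ι → X.Opens) (V : X.Opens)
    (hUV : ∀ i, U i ≤ V) (hcover : V ≤ iSup U) (sf : ∀ i, Γ(X, U i))
    (hcompat : ∀ i j, (X.presheaf.map (homOfLE (inf_le_left : U i ⊓ U j ≤ U i)).op).hom (sf i) =
      (X.presheaf.map (homOfLE (inf_le_right : U i ⊓ U j ≤ U j)).op).hom (sf j)) :
    ∃ s : Γ(X, V), ∀ i, (X.presheaf.map (homOfLE (hUV i)).op).hom s = sf i := by
  obtain ⟨s, hs, -⟩ := TopCat.Sheaf.existsUnique_gluing' X.sheaf U V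
    (fun i => homOfLE (hUV i)) hcover sf (fun i j => hcompat i j)
  exact ⟨s, hs⟩

theorem scheme_sep (X : Scheme.{u}) {ι : Type*} (U : ι → X.Opens) (V : X.Opens)
    (hUV : ∀ i, U i ≤ V) (hcover : V ≤ iSup U) (s t : Γ(X, V))
    (h : ∀ i, (X.presheaf.map (homOfLE (hUV i)).op).hom s =
      (X.presheaf.map (homOfLE (hUV i)).op).hom t) : s = t :=
  TopCat.Sheaf.eq_of_locally_eq' X.sheaf U V (fun i => homOfLE (hUV i)) hcover s t h

end Glue

theorem isAffine_of_lifts {X X₀ X' : Scheme.{u}} [IsAffine X] (t : X ⟶ X') (j : X ⟶ X₀)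
    (ι₀ : X₀ ⟶ X') (hj : j ≫ ι₀ = t) [IsClosedImmersion j] (hjsurj : Function.Surjective j)
    [IsAffineHom ι₀] (T : Finset X') (V : X' → X'.Opens) (hVaff : ∀ y, IsAffineOpen (V y))
    (hcov : ∀ y : X', ∃ y' ∈ T, y ∈ V y') (a b : X' → Γ(X, ⊤))
    (hVpre : ∀ y, t ⁻¹ᵁ V y = X.basicOpen (a y)) (hb : ∑ y ∈ T, b y * a y = 1)
    (F : Finset Γ(X, ⊤)) (hFa : ∀ y ∈ T, a y ∈ F) (hFb : ∀ y ∈ T, b y ∈ F)
    (L : Γ(X, ⊤) → ∀ y, Γ(X', V y))
    (hL : ∀ f y, (t.app (V y)).hom (L f y) = resTop X (t ⁻¹ᵁ V y) f)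
    (hcompat : ∀ f ∈ F, ∀ y ∈ T, ∀ z ∈ T, (ι₀.app (V y ⊓ V z)).hom
      ((X'.presheaf.map (homOfLE (inf_le_left : V y ⊓ V z ≤ V y)).op).hom (L f y) -
        (X'.presheaf.map (homOfLE (inf_le_right : V y ⊓ V z ≤ V z)).op).hom (L f z)) = 0) :
    IsAffine X₀ := by
  classical
  subst hj
  -- gluing
  have hglue : ∀ f ∈ F, ∃ g : Γ(X₀, ⊤), ∀ y : T,
      (X₀.presheaf.map (homOfLE (le_top : ι₀ ⁻¹ᵁ V y.1 ≤ ⊤)).op).hom g =
        (ι₀.app (V y.1)).hom (L f y.1) := by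
    intro f hf
    refine scheme_glue X₀ (fun y : T => ι₀ ⁻¹ᵁ V y.1) ⊤ (fun _ => le_top) ?_
      (fun y => (ι₀.app (V y.1)).hom (L f y.1)) ?_
    · intro x₀ _
      obtain ⟨y', hy', hx⟩ := hcov (ι₀ x₀)
      exact Opens.mem_iSup.mpr ⟨⟨y', hy'⟩, hx⟩
    · rintro ⟨y, hy⟩ ⟨z, hz⟩
      have h := hcompat f hf y hy z hz
      rw [map_sub, sub_eq_zero, app_res ι₀ inf_le_left, app_res ι₀ inf_le_right] at h
      exact h
  choose! γ hγ using hglue
  -- `j.appTop (γ f) = f`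
  have hjγ : ∀ f ∈ F, j.appTop.hom (γ f) = f := by
    intro f hf
    refine scheme_sep X (fun y : T => j ⁻¹ᵁ ι₀ ⁻¹ᵁ V y.1) ⊤ (fun _ => le_top) ?_ _ _ ?_
    · intro x _
      obtain ⟨y', hy', hx⟩ := hcov (ι₀ (j x))
      exact Opens.mem_iSup.mpr ⟨⟨y', hy'⟩, hx⟩
    · rintro ⟨y, hy⟩
      have h1 := app_res j (le_top : ι₀ ⁻¹ᵁ V y ≤ ⊤) (γ f)
      rw [hγ f hf ⟨y, hy⟩] at h1
      have h2 := hL f y
      exact h1.symm.trans h2
  -- basic opens
  have hbo : ∀ y ∈ T, X₀.basicOpen (γ (a y)) = ι₀ ⁻¹ᵁ V y := by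
    intro y hy
    apply eq_of_preimage_eq j hjsurj
    rw [Scheme.preimage_basicOpen]
    have : (j.app ⊤) (γ (a y)) = a y := hjγ (a y) (hFa y hy)
    rw [this]
    exact (hVpre y).symm
  -- the unit
  set u := ∑ y ∈ T, γ (b y) * γ (a y) with hu
  have hu1 : j.appTop.hom u = 1 := by
    rw [hu, map_sum, ← hb]
    refine Finset.sum_congr rfl fun y hy => ?_
    rw [map_mul, hjγ _ (hFb y hy), hjγ _ (hFa y hy)]
  have huu : IsUnit u := by
    refine X₀.toRingedSpace.isUnit_of_isUnit_germ (U := ⊤) u fun x hx => ?_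
    have hbo' : X₀.basicOpen u = ⊤ := by
      apply eq_of_preimage_eq j hjsurj
      rw [Scheme.preimage_basicOpen]
      have : (j.app ⊤) u = 1 := hu1
      rw [this, Scheme.basicOpen_of_isUnit _ isUnit_one]
    have hx' : x ∈ X₀.basicOpen u := by rw [hbo']; exact hx
    exact (Scheme.mem_basicOpen _ _ _ hx).mp hx'
  have hspan : Ideal.span ((fun y => γ (a y)) '' (T : Set X')) = ⊤ := by
    refine Ideal.eq_top_of_isUnit_mem _ ?_ huu
    exact Ideal.sum_mem _ fun y hy => Ideal.mul_mem_left _ _ (Ideal.subset_span ⟨y, hy, rfl⟩)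
  refine isAffine_of_isAffineOpen_basicOpen _ hspan ?_
  rintro _ ⟨y, hy, rfl⟩
  rw [hbo y hy]
  exact (hVaff y).preimage ι₀

variable {X X' : Scheme.{u}} (t : X ⟶ X') [IsClosedImmersion t]

omit [IsClosedImmersion t] in
theorem isNilpotent_of_app_eq_zero (ht : Function.Surjective t) (U : X'.Opens)
    (hU : IsCompact (U : Set X')) (x : Γ(X', U)) (hx : (t.app U).hom x = 0) : IsNilpotent x := by
  rw [Scheme.isNilpotent_iff_basicOpen_eq_bot_of_isCompact hU]
  apply eq_of_preimage_eq t ht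
  rw [Scheme.preimage_basicOpen]
  have : (t.app U) x = 0 := hx
  rw [this, Scheme.basicOpen_zero]
  rfl

theorem compactSpace_of_surjective [CompactSpace X] (ht : Function.Surjective t) :
    CompactSpace X' :=
  (t.isClosedEmbedding.isEmbedding.toHomeomorphOfSurjective ht).compactSpace

theorem quasiSeparatedSpace_of_surjective [QuasiSeparatedSpace X] (ht : Function.Surjective t) :
    QuasiSeparatedSpace X' :=
  QuasiSeparatedSpace.of_isOpenEmbedding
    (t.isClosedEmbedding.isEmbedding.toHomeomorphOfSurjective ht).symm.isOpenEmbedding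

theorem exists_fg_le_of_finite {X : Scheme.{u}} [CompactSpace X] [QuasiSeparatedSpace X] (I : X.IdealSheafData)
    {ι : Type*} (s : Finset ι) (V : ι → X.affineOpens) (ν : ∀ i, Γ(X, (V i).1))
    (hν : ∀ i ∈ s, ν i ∈ I.ideal (V i)) :
    ∃ J : X.IdealSheafData, J ≤ I ∧ (∀ U : X.affineOpens, (J.ideal U).FG) ∧
      ∀ i ∈ s, ν i ∈ J.ideal (V i) := by
  classical
  induction s using Finset.induction_on with
  | empty =>
    exact ⟨⊥, bot_le, fun U => Submodule.fg_bot, fun i hi => absurd hi (Finset.notMem_empty i)⟩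
  | insert i₀ s hi₀ ih =>
    obtain ⟨J, hJI, hJfg, hJν⟩ := ih fun i hi => hν i (Finset.mem_insert_of_mem hi)
    obtain ⟨J', hJ'I, hJ'fg, hJ'ν⟩ := exists_fg_le_of_mem I (V i₀) (ν i₀)
      (hν i₀ (Finset.mem_insert_self _ _))
    refine ⟨J ⊔ J', sup_le hJI hJ'I, fun U => ?_, fun i hi => ?_⟩
    · change ((J.ideal U) ⊔ (J'.ideal U)).FG
      exact Submodule.FG.sup (hJfg U) (hJ'fg U)
    · rcases Finset.mem_insert.mp hi with rfl | hi
      · exact (show J'.ideal (V i) ≤ (J ⊔ J').ideal (V i) from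
          Scheme.IdealSheafData.ideal_mono le_sup_right (V i)) hJ'ν
      · exact (show J.ideal (V i) ≤ (J ⊔ J').ideal (V i) from
          Scheme.IdealSheafData.ideal_mono le_sup_left (V i)) (hJν i hi)

theorem exists_pow_eq_bot {X : Scheme.{u}} [CompactSpace X] (J : X.IdealSheafData)
    (hfg : ∀ U : X.affineOpens, (J.ideal U).FG)
    (hnil : ∀ (U : X.affineOpens), ∀ x ∈ J.ideal U, IsNilpotent x) : ∃ M : ℕ, J ^ M = ⊥ := by
  classical
  have hM : ∀ U : X.affineOpens, ∃ M : ℕ, (J.ideal U) ^ M = ⊥ := by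
    intro U
    have : IsNilpotent (J.ideal U) := by
      rw [Ideal.FG.isNilpotent_iff_le_nilradical (hfg U)]
      intro x hx
      exact mem_nilradical.mpr (hnil U x hx)
    obtain ⟨M, hM⟩ := this
    exact ⟨M, hM⟩
  choose M hM using hM
  -- finite affine cover
  have hloc : ∀ x : X, ∃ U : X.affineOpens, x ∈ U.1 := by
    intro x
    obtain ⟨_, ⟨U, hU, rfl⟩, hxU, -⟩ :=
      X.isBasis_affineOpens.exists_subset_of_mem_open (Set.mem_univ x) isOpen_univ
    exact ⟨⟨U, hU⟩, hxU⟩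
  choose U hxU using hloc
  obtain ⟨T, hT⟩ := isCompact_univ.elim_finite_subcover (fun x => (((U x).1 : X.Opens) : Set X))
    (fun x => (U x).1.isOpen) (fun x _ => Set.mem_iUnion.mpr ⟨x, hxU x⟩)
  refine ⟨T.sup (fun x => M (U x)), ?_⟩
  refine Scheme.IdealSheafData.ext_of_iSup_eq_top (fun x : T => U x.1) ?_ ?_
  · apply le_antisymm le_top
    intro x _
    have := hT (Set.mem_univ x)
    simp only [Set.mem_iUnion, SetLike.mem_coe, exists_prop] at this
    obtain ⟨y, hy, hxy⟩ := this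
    exact Opens.mem_iSup.mpr ⟨⟨y, hy⟩, hxy⟩
  · rintro ⟨x, hx⟩
    change (J.ideal (U x)) ^ (T.sup fun x => M (U x)) = ⊥
    have hle : M (U x) ≤ T.sup fun x => M (U x) := Finset.le_sup (f := fun x => M (U x)) hx
    rw [← le_bot_iff, ← hM (U x)]
    exact Ideal.pow_le_pow_right hle

variable [IsAffine X]

theorem exists_good_open (ht : Function.Surjective t) (y : X') :
    ∃ V : X'.Opens, y ∈ V ∧ IsAffineOpen V ∧ ∃ h : Γ(X, ⊤), t ⁻¹ᵁ V = X.basicOpen h := by
  obtain ⟨z, rfl⟩ := ht y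
  obtain ⟨U, hU, hzU⟩ : ∃ U : X'.Opens, IsAffineOpen U ∧ t z ∈ U := by
    obtain ⟨_, ⟨U, hU, rfl⟩, hyU, -⟩ :=
      X'.isBasis_affineOpens.exists_subset_of_mem_open (Set.mem_univ (t z)) isOpen_univ
    exact ⟨U, hU, hyU⟩
  obtain ⟨_, ⟨_, ⟨a, rfl⟩, rfl⟩, hza, haU⟩ := (isBasis_basicOpen X).exists_subset_of_mem_open
    (show z ∈ ((t ⁻¹ᵁ U : X.Opens) : Set X) from hzU) (t ⁻¹ᵁ U).isOpen
  obtain ⟨β, hβ⟩ := t.app_surjective U hU (resTop X (t ⁻¹ᵁ U) a)
  have hpre : t ⁻¹ᵁ (X'.basicOpen β) = X.basicOpen a := by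
    rw [Scheme.preimage_basicOpen]
    have : (t.app U) β = resTop X (t ⁻¹ᵁ U) a := hβ
    rw [this, basicOpen_resTop]
    exact inf_eq_right.mpr haU
  refine ⟨X'.basicOpen β, ?_, hU.basicOpen β, a, hpre⟩
  exact (show z ∈ t ⁻¹ᵁ (X'.basicOpen β) from hpre ▸ hza)

/-- **A thickening of an affine scheme is affine.** -/
theorem isAffine_of_surjective (ht : Function.Surjective t) : IsAffine X' := by
  classical
  have hcpt : CompactSpace X' := compactSpace_of_surjective t ht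
  have hqs : QuasiSeparatedSpace X' := quasiSeparatedSpace_of_surjective t ht
  choose V hyV hVaff a hVpre using exists_good_open t ht
  obtain ⟨T, hT⟩ := isCompact_univ.elim_finite_subcover (fun y => ((V y : X'.Opens) : Set X'))
    (fun y => (V y).isOpen) (fun y _ => Set.mem_iUnion.mpr ⟨y, hyV y⟩)
  have hcov : ∀ y : X', ∃ y' ∈ T, y ∈ V y' := by
    intro y
    have := hT (Set.mem_univ y)
    simp only [Set.mem_iUnion, SetLike.mem_coe, exists_prop] at this
    exact this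
  -- the `a y` span the unit ideal
  have hspan : (1 : Γ(X, ⊤)) ∈ Ideal.span (a '' (T : Set X')) := by
    have h1 := mem_radical_of_basicOpen_le X 1 (a '' (T : Set X')) (fun z _ => by
      obtain ⟨y', hy', hzy'⟩ := hcov (t z)
      exact ⟨a y', ⟨y', hy', rfl⟩, (hVpre y') ▸ (show z ∈ t ⁻¹ᵁ V y' from hzy')⟩)
    obtain ⟨k, hk⟩ := h1
    simpa using hk
  obtain ⟨b, hb⟩ := (Submodule.mem_span_image_finset_iff_exists_fun' _).mp hspan
  have hb' : ∑ y ∈ T, b y * a y = 1 := hb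
  -- local lifts
  have hL : ∀ (f : Γ(X, ⊤)) (y : X'), ∃ l : Γ(X', V y),
      (t.app (V y)).hom l = resTop X (t ⁻¹ᵁ V y) f :=
    fun f y => t.app_surjective (V y) (hVaff y) _
  choose L hL using hL
  have hpre2 : ∀ y z, t ⁻¹ᵁ (V y ⊓ V z) = X.basicOpen (a y * a z) := by
    intro y z
    rw [Scheme.basicOpen_mul, ← hVpre y, ← hVpre z]
    rfl
  have haff2 : ∀ y z, IsAffineOpen (V y ⊓ V z) := by
    intro y z
    obtain ⟨β, -, hβ⟩ := isAffineOpen_of_preimage_eq t ht (V y) (hVaff y) (a y) (hVpre y) (a z)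
      (V y ⊓ V z) (hpre2 y z)
    exact hβ ▸ (hVaff y).basicOpen β
  set F : Finset Γ(X, ⊤) := T.image a ∪ T.image b with hF
  -- the differences
  let Vi : Γ(X, ⊤) × X' × X' → X'.affineOpens := fun p => ⟨V p.2.1 ⊓ V p.2.2, haff2 _ _⟩
  let ν : ∀ p : Γ(X, ⊤) × X' × X', Γ(X', (Vi p).1) := fun p =>
    (X'.presheaf.map (homOfLE (inf_le_left : V p.2.1 ⊓ V p.2.2 ≤ V p.2.1)).op).hom (L p.1 p.2.1) -
      (X'.presheaf.map (homOfLE (inf_le_right : V p.2.1 ⊓ V p.2.2 ≤ V p.2.2)).op).hom (L p.1 p.2.2)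
  have hν : ∀ p, ν p ∈ t.ker.ideal (Vi p) := by
    intro p
    rw [Scheme.Hom.ker_apply, RingHom.mem_ker]
    change (t.app (V p.2.1 ⊓ V p.2.2)).hom (ν p) = 0
    simp only [ν]
    rw [map_sub, sub_eq_zero, app_res t inf_le_left, app_res t inf_le_right, hL, hL,
      res_resTop, res_resTop]
  obtain ⟨N₀, hN₀le, hN₀fg, hN₀mem⟩ := exists_fg_le_of_finite t.ker (F ×ˢ T ×ˢ T) Vi ν
    (fun p _ => hν p)
  obtain ⟨M, hM⟩ := exists_pow_eq_bot N₀ hN₀fg (fun U x hx =>
    isNilpotent_of_app_eq_zero t ht U.1 U.2.isCompact x (by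
      have := hN₀le U hx
      rwa [Scheme.Hom.ker_apply] at this))
  -- the intermediate closed subscheme
  have hker : N₀.subschemeι.ker = N₀ := N₀.ker_subschemeι
  let j : X ⟶ N₀.subscheme := IsClosedImmersion.lift N₀.subschemeι t (hker.le.trans hN₀le)
  have hj : j ≫ N₀.subschemeι = t := IsClosedImmersion.lift_fac _ _ _
  have hjcl : IsClosedImmersion j := by
    have : IsClosedImmersion (j ≫ N₀.subschemeι) := hj ▸ inferInstance
    exact IsClosedImmersion.of_comp j N₀.subschemeι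
  have hι₀surj : Function.Surjective N₀.subschemeι := by
    intro y
    obtain ⟨x, rfl⟩ := ht y
    exact ⟨j x, by rw [← hj]; rfl⟩
  have hjsurj : Function.Surjective j := by
    intro x₀
    obtain ⟨x, hx⟩ := ht (N₀.subschemeι x₀)
    refine ⟨x, N₀.subschemeι.isClosedEmbedding.injective ?_⟩
    rw [← hx, ← hj]
    rfl
  have hX₀ : IsAffine N₀.subscheme := by
    refine isAffine_of_lifts t j N₀.subschemeι hj hjsurj T V hVaff hcov a b hVpre hb' F
      (fun y hy => Finset.mem_union_left _ (Finset.mem_image_of_mem a hy))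
      (fun y hy => Finset.mem_union_right _ (Finset.mem_image_of_mem b hy)) L hL ?_
    intro f hf y hy z hz
    have := hN₀mem (f, y, z) (Finset.mem_product.mpr ⟨hf, Finset.mem_product.mpr ⟨hy, hz⟩⟩)
    rw [← N₀.ker_subschemeι_app, RingHom.mem_ker] at this
    exact this
  refine isAffine_of_nilpotent N₀.subschemeι hι₀surj M ?_
  intro U hU
  have h1 : RingHom.ker (N₀.subschemeι.app U).hom = N₀.ideal ⟨U, hU⟩ :=
    N₀.ker_subschemeι_app ⟨U, hU⟩
  rw [h1]
  change (N₀ ^ M).ideal ⟨U, hU⟩ = ⊥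
  rw [hM]
  rfl

end Groth.Agent.Lib.Helper39.ThickAff
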