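import Groth.Agent.Lib.Helper39.ThickAff.ClosedCover

/-!
# Affine opens containing finitely many points, via finite closed covers

If `X` is covered by finitely many closed subschemes `Y k` and each `Y k` has an affine open
containing the points of a finite set `T` lying on it, then `X` has an affine open containing `T`.
-/

set_option autoImplicit false
universe u v
open AlgebraicGeometry CategoryTheory TopologicalSpace Opposite

namespace Groth.Agent.Lib.Helper39.ThickAff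

/-- coset prime avoidance. -/
theorem exists_add_notMem_of_not_le {R : Type*} [CommRing R] (J : Ideal R) {ι : Type*}
    (p : ι → Ideal R) :
    ∀ (s : Finset ι), (∀ i ∈ s, (p i).IsPrime) → (∀ i ∈ s, ¬ J ≤ p i) → ∀ f₀ : R,
      ∃ j ∈ J, ∀ i ∈ s, f₀ + j ∉ p i := by
  classical
  intro s
  induction s using Finset.strongInduction with
  | H s ih =>
    intro hp hJ f₀
    rcases s.eq_empty_or_nonempty with rfl | hne
    · exact ⟨0, J.zero_mem, by simp⟩
    obtain ⟨i₀, hi₀s, hmin⟩ := s.exists_minimalFor p hne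
    set t := s.filter (fun i => p i ≠ p i₀) with ht
    have hts : t ⊂ s := by
      refine Finset.ssubset_iff_subset_ne.mpr ⟨Finset.filter_subset _ _, fun h => ?_⟩
      have : i₀ ∈ t := h ▸ hi₀s
      exact (Finset.mem_filter.mp this).2 rfl
    have hts' : t ⊆ s := Finset.filter_subset _ _
    obtain ⟨j', hj'J, hj'⟩ := ih t hts (fun i hi => hp i (hts' hi)) (fun i hi => hJ i (hts' hi)) f₀
    have hpi₀ := hp i₀ hi₀s
    by_cases hc : f₀ + j' ∈ p i₀
    · have hnle : ¬ (J * ∏ i ∈ t, p i ≤ p i₀) := by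
        intro hle
        rcases hpi₀.mul_le.mp hle with h | h
        · exact hJ i₀ hi₀s h
        · obtain ⟨i, hit, hle'⟩ := hpi₀.prod_le.mp h
          have h2 := hmin (hts' hit) hle'
          exact (Finset.mem_filter.mp hit).2 (le_antisymm hle' h2)
      obtain ⟨c, hcmem, hcnot⟩ := SetLike.not_le_iff_exists.mp hnle
      have hcJ : c ∈ J := (Ideal.mul_le_inf hcmem).1
      have hcprod : c ∈ ∏ i ∈ t, p i := (Ideal.mul_le_inf hcmem).2
      refine ⟨j' + c, J.add_mem hj'J hcJ, fun i his => ?_⟩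
      by_cases hi : p i = p i₀
      · rw [hi]
        intro h
        apply hcnot
        have := (p i₀).sub_mem h hc
        have e : f₀ + (j' + c) - (f₀ + j') = c := by ring
        rwa [e] at this
      · have hit : i ∈ t := Finset.mem_filter.mpr ⟨his, hi⟩
        have hci : c ∈ p i := (Ideal.prod_le_inf.trans (Finset.inf_le hit)) hcprod
        intro h
        apply hj' i hit
        have := (p i).sub_mem h hci
        have e : f₀ + (j' + c) - c = f₀ + j' := by ring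
        rwa [e] at this
    · refine ⟨j', hj'J, fun i his => ?_⟩
      by_cases hi : p i = p i₀
      · rw [hi]; exact hc
      · exact hj' i (Finset.mem_filter.mpr ⟨his, hi⟩)

section Eval

variable {Y : Scheme.{u}}

open Classical in
/-- the prime ideal of functions on `U` vanishing at `y`. -/
noncomputable def evalKer (U : Y.Opens) (y : Y) : Ideal Γ(Y, U) :=
  if hy : y ∈ U then RingHom.ker (Y.evaluation U y hy).hom else ⊤

theorem mem_evalKer_iff (U : Y.Opens) (y : Y) (hy : y ∈ U) (f : Γ(Y, U)) :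
    f ∈ evalKer U y ↔ y ∉ Y.basicOpen f := by
  rw [evalKer, dif_pos hy, RingHom.mem_ker]
  exact Y.evaluation_eq_zero_iff_notMem_basicOpen y hy f

theorem evalKer_isPrime (U : Y.Opens) (y : Y) (hy : y ∈ U) : (evalKer U y).IsPrime := by
  rw [evalKer, dif_pos hy]
  exact RingHom.ker_isPrime _

/-- prime avoidance for points of an affine open. -/
theorem exists_basicOpen_le_of_finite (U : Y.Opens) (hU : IsAffineOpen U) (W : Y.Opens)
    (F : Finset Y) (hF : ∀ y ∈ F, y ∈ U ∧ y ∈ W) :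
    ∃ φ : Γ(Y, U), Y.basicOpen φ ≤ W ∧ ∀ y ∈ F, y ∈ Y.basicOpen φ := by
  classical
  -- the ideal of functions whose non-vanishing locus is inside `W`
  let K : Ideal Γ(Y, U) :=
    { carrier := {φ | Y.basicOpen φ ≤ W}
      add_mem' := fun {a b} ha hb => (Y.basicOpen_add_le a b).trans (sup_le ha hb)
      zero_mem' := by
        change Y.basicOpen (0 : Γ(Y, U)) ≤ W
        rw [Scheme.basicOpen_zero]; exact bot_le
      smul_mem' := fun c {a} ha => by
        change Y.basicOpen (c * a) ≤ W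
        rw [Scheme.basicOpen_mul]; exact inf_le_right.trans ha }
  rcases F.eq_empty_or_nonempty with rfl | ⟨y₀, hy₀⟩
  · exact ⟨0, K.zero_mem, by simp⟩
  by_contra hcon
  have hsub : (K : Set Γ(Y, U)) ⊆ ⋃ y ∈ (F : Set Y), (evalKer U y : Set Γ(Y, U)) := by
    intro φ hφ
    by_contra hφn
    apply hcon
    refine ⟨φ, hφ, fun y hy => ?_⟩
    by_contra hyφ
    apply hφn
    exact Set.mem_biUnion hy ((mem_evalKer_iff U y (hF y hy).1 φ).mpr hyφ)
  obtain ⟨y, hyF, hle⟩ := (Ideal.subset_union_prime (R := Γ(Y, U)) (s := F)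
    (f := fun y => evalKer U y) y₀ y₀
    (fun y hy _ _ => evalKer_isPrime U y (hF y hy).1)).mp hsub
  obtain ⟨k, hkW, hyk⟩ := hU.exists_basicOpen_le (V := W) ⟨y, (hF y hyF).2⟩ (hF y hyF).1
  exact (mem_evalKer_iff U y (hF y hyF).1 k).mp (hle hkW) hyk

/-- a basic open of the localization `Γ(Y, D(φ))` is a basic open of the affine open `U`. -/
theorem exists_basicOpen_eq_of_le (U : Y.Opens) (hU : IsAffineOpen U) (φ : Γ(Y, U))
    (s : Γ(Y, Y.basicOpen φ)) : ∃ θ : Γ(Y, U), Y.basicOpen θ = Y.basicOpen s := by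
  have hWV : Y.basicOpen φ ≤ U := Y.basicOpen_le φ
  have hloc := hU.isLocalization_of_eq_basicOpen φ (homOfLE hWV) rfl
  let _ := (Y.presheaf.map (homOfLE hWV).op).hom.toAlgebra
  obtain ⟨⟨r, ⟨_, n, rfl⟩⟩, hr⟩ := IsLocalization.surj (Submonoid.powers φ) s
  have hr' : s * (Y.presheaf.map (homOfLE hWV).op).hom φ ^ n =
      (Y.presheaf.map (homOfLE hWV).op).hom r := by
    simpa [RingHom.algebraMap_toAlgebra] using hr
  have hφres : Y.basicOpen ((Y.presheaf.map (homOfLE hWV).op).hom φ) = Y.basicOpen φ := by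
    rw [Scheme.basicOpen_res]; exact inf_idem _
  have hpow : Y.basicOpen ((Y.presheaf.map (homOfLE hWV).op).hom φ ^ n) = Y.basicOpen φ := by
    rcases Nat.eq_zero_or_pos n with rfl | hn
    · rw [pow_zero, Scheme.basicOpen_of_isUnit _ isUnit_one]
    · rw [Scheme.basicOpen_pow _ _ hn, hφres]
  refine ⟨φ * r, ?_⟩
  have h1 : Y.basicOpen ((Y.presheaf.map (homOfLE hWV).op).hom r) =
      Y.basicOpen φ ⊓ Y.basicOpen r := Scheme.basicOpen_res Y r (homOfLE hWV).op
  rw [Scheme.basicOpen_mul, ← h1, ← hr', Scheme.basicOpen_mul, hpow]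
  exact inf_eq_left.mpr (Y.basicOpen_le s)

/-- a point of an affine open outside a closed subscheme is separated from it by a function in the
kernel. -/
theorem exists_mem_ker_basicOpen_affineOpen {Y' : Scheme.{u}} (q : Y' ⟶ Y) [IsClosedImmersion q]
    (V : Y.Opens) (hV : IsAffineOpen V) (y : Y) (hyV : y ∈ V) (hy : y ∉ Set.range q) :
    ∃ j : Γ(Y, V), (q.app V).hom j = 0 ∧ y ∈ Y.basicOpen j := by
  have hcl : IsClosed (Set.range q) := q.isClosedEmbedding.isClosed_range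
  let O : Y.Opens := ⟨(Set.range q)ᶜ, hcl.isOpen_compl⟩
  obtain ⟨j₀, hj₀O, hyj₀⟩ := hV.exists_basicOpen_le (V := O) ⟨y, hy⟩ hyV
  have hbot : Y'.basicOpen ((q.app V).hom j₀) = ⊥ := by
    have h1 : q ⁻¹ᵁ (Y.basicOpen j₀) = Y'.basicOpen ((q.app V).hom j₀) :=
      Scheme.preimage_basicOpen q j₀
    rw [← h1]
    ext y'
    simp only [Opens.coe_bot, Set.mem_empty_iff_false, iff_false]
    intro hy'
    exact hj₀O hy' ⟨y', rfl⟩
  have hcpt : IsCompact ((q ⁻¹ᵁ V : Y'.Opens) : Set Y') := (hV.preimage q).isCompact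
  obtain ⟨n, hn⟩ := (Scheme.isNilpotent_iff_basicOpen_eq_bot_of_isCompact hcpt
    ((q.app V).hom j₀)).mpr hbot
  refine ⟨j₀ ^ (n + 1), ?_, ?_⟩
  · rw [map_pow, pow_succ, hn, zero_mul]
  · rw [Scheme.basicOpen_pow _ _ (Nat.succ_pos n)]
    exact hyj₀

/-- adjusting a function by an element of the kernel so that it does not vanish at finitely many
points. -/
theorem exists_adjust {Y' : Scheme.{u}} (q : Y' ⟶ Y) [IsClosedImmersion q]
    (V : Y.Opens) (hV : IsAffineOpen V) (f₀ : Γ(Y, V)) (F : Finset Y) (hFV : ∀ y ∈ F, y ∈ V)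
    (hF : ∀ y ∈ F, y ∈ Set.range q → y ∈ Y.basicOpen f₀) :
    ∃ f : Γ(Y, V), (q.app V).hom f = (q.app V).hom f₀ ∧ ∀ y ∈ F, y ∈ Y.basicOpen f := by
  classical
  set J : Ideal Γ(Y, V) := RingHom.ker (q.app V).hom with hJ
  set s := F.filter (fun y => y ∉ Set.range q) with hs
  obtain ⟨j, hjJ, hj⟩ := exists_add_notMem_of_not_le J (fun y => evalKer V y) s
    (fun y hy => evalKer_isPrime V y (hFV y (Finset.mem_filter.mp hy).1))
    (fun y hy hle => by
      have hyF := (Finset.mem_filter.mp hy).1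
      obtain ⟨j, hj0, hyj⟩ := exists_mem_ker_basicOpen_affineOpen q V hV y (hFV y hyF)
        (Finset.mem_filter.mp hy).2
      exact (mem_evalKer_iff V y (hFV y hyF) j).mp (hle (RingHom.mem_ker.mpr hj0)) hyj) f₀
  have hfj : (q.app V).hom (f₀ + j) = (q.app V).hom f₀ := by
    rw [map_add, RingHom.mem_ker.mp hjJ, add_zero]
  refine ⟨f₀ + j, hfj, fun y hyF => ?_⟩
  by_cases hyr : y ∈ Set.range q
  · obtain ⟨y', rfl⟩ := hyr
    have h1 : y' ∈ q ⁻¹ᵁ (Y.basicOpen f₀) := hF _ hyF ⟨y', rfl⟩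
    have p1 : q ⁻¹ᵁ (Y.basicOpen f₀) = Y'.basicOpen ((q.app V).hom f₀) :=
      Scheme.preimage_basicOpen q f₀
    have p2 : q ⁻¹ᵁ (Y.basicOpen (f₀ + j)) = Y'.basicOpen ((q.app V).hom (f₀ + j)) :=
      Scheme.preimage_basicOpen q (f₀ + j)
    rw [p1, ← hfj, ← p2] at h1
    exact h1
  · have hys : y ∈ s := Finset.mem_filter.mpr ⟨hyF, hyr⟩
    by_contra hcon
    exact hj y hys ((mem_evalKer_iff V y (hFV y hyF) _).mpr hcon)

end Eval

/-- two-piece step: an open containing `T` whose traces on both closed pieces are affine. -/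
theorem exists_open_preimage_affine {X Y₁ Y₂ : Scheme.{u}} (ι₁ : Y₁ ⟶ X) (ι₂ : Y₂ ⟶ X)
    [IsClosedImmersion ι₁] [IsClosedImmersion ι₂] (T : Finset X)
    (V₁ : Y₁.Opens) (hV₁ : IsAffineOpen V₁) (V₂ : Y₂.Opens) (hV₂ : IsAffineOpen V₂)
    (hT₁ : ∀ y : Y₁, ι₁ y ∈ T → y ∈ V₁) (hT₂ : ∀ y : Y₂, ι₂ y ∈ T → y ∈ V₂) :
    ∃ U : X.Opens, (∀ t ∈ T, t ∈ U) ∧ IsAffineOpen (ι₁ ⁻¹ᵁ U) ∧ IsAffineOpen (ι₂ ⁻¹ᵁ U) := by
  classical
  set M := ι₁.ker ⊔ ι₂.ker with hM
  have hkerM : M.subschemeι.ker = M := M.ker_subschemeι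
  let q₁ : M.subscheme ⟶ Y₁ := IsClosedImmersion.lift ι₁ M.subschemeι (le_sup_left.trans hkerM.ge)
  let q₂ : M.subscheme ⟶ Y₂ := IsClosedImmersion.lift ι₂ M.subschemeι (le_sup_right.trans hkerM.ge)
  have hq₁ : q₁ ≫ ι₁ = M.subschemeι := IsClosedImmersion.lift_fac _ _ _
  have hq₂ : q₂ ≫ ι₂ = M.subschemeι := IsClosedImmersion.lift_fac _ _ _
  have hq₁cl : IsClosedImmersion q₁ := by
    have : IsClosedImmersion (q₁ ≫ ι₁) := hq₁ ▸ inferInstance
    exact IsClosedImmersion.of_comp q₁ ι₁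
  have hq₂cl : IsClosedImmersion q₂ := by
    have : IsClosedImmersion (q₂ ≫ ι₂) := hq₂ ▸ inferInstance
    exact IsClosedImmersion.of_comp q₂ ι₂
  have hι₁q : ∀ y', ι₁ (q₁ y') = M.subschemeι y' := fun y' => by
    rw [← Scheme.Hom.comp_apply, hq₁]
  have hι₂q : ∀ y', ι₂ (q₂ y') = M.subschemeι y' := fun y' => by
    rw [← Scheme.Hom.comp_apply, hq₂]
  -- points in both ranges come from the intersection
  have hpt : ∀ (y₁ : Y₁) (y₂ : Y₂), ι₁ y₁ = ι₂ y₂ → ∃ y', q₁ y' = y₁ ∧ q₂ y' = y₂ := by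
    intro y₁ y₂ h
    have hmem : ι₁ y₁ ∈ Set.range M.subschemeι := by
      rw [Scheme.IdealSheafData.range_subschemeι]
      have e : M.support = ι₁.ker.support ⊓ ι₂.ker.support :=
        Scheme.IdealSheafData.support_sup _ _
      rw [e]
      refine ⟨?_, ?_⟩
      · have h1 : ((ι₁.ker).support : Set X) = closure (Set.range ι₁) :=
          Scheme.Hom.support_ker ι₁
        change ι₁ y₁ ∈ ((ι₁.ker).support : Set X)
        rw [h1]
        exact subset_closure ⟨y₁, rfl⟩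
      · have h1 : ((ι₂.ker).support : Set X) = closure (Set.range ι₂) :=
          Scheme.Hom.support_ker ι₂
        change ι₁ y₁ ∈ ((ι₂.ker).support : Set X)
        rw [h1, h]
        exact subset_closure ⟨y₂, rfl⟩
    obtain ⟨y', hy'⟩ := hmem
    refine ⟨y', ι₁.isClosedEmbedding.injective ?_, ι₂.isClosedEmbedding.injective ?_⟩
    · rw [hι₁q]; exact hy'
    · rw [hι₂q, hy', h]
  set O₁ := q₁ ⁻¹ᵁ V₁ with hO₁def
  set O₂ := q₂ ⁻¹ᵁ V₂ with hO₂def
  have hO₁ : IsAffineOpen O₁ := hV₁.preimage q₁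
  have hO₂ : IsAffineOpen O₂ := hV₂.preimage q₂
  let T₁₂ : Finset M.subscheme :=
    T.preimage M.subschemeι (M.subschemeι.isClosedEmbedding.injective.injOn)
  have hT₁₂ : ∀ y' ∈ T₁₂, y' ∈ O₁ ∧ y' ∈ O₂ := by
    intro y' hy'
    have h : M.subschemeι y' ∈ T := Finset.mem_preimage.mp hy'
    exact ⟨hT₁ _ (by rw [hι₁q]; exact h), hT₂ _ (by rw [hι₂q]; exact h)⟩
  obtain ⟨φ, hφW, hφT⟩ := exists_basicOpen_le_of_finite O₁ hO₁ (O₁ ⊓ O₂) T₁₂
    (fun y hy => ⟨(hT₁₂ y hy).1, hT₁₂ y hy⟩)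
  obtain ⟨ψ, hψW, hψT⟩ := exists_basicOpen_le_of_finite O₂ hO₂ (M.subscheme.basicOpen φ) T₁₂
    (fun y hy => ⟨(hT₁₂ y hy).2, hφT y hy⟩)
  have hφO₂ : M.subscheme.basicOpen φ ≤ O₂ := hφW.trans inf_le_right
  obtain ⟨θ, hθ⟩ := exists_basicOpen_eq_of_le O₁ hO₁ φ
    ((M.subscheme.presheaf.map (homOfLE hφO₂).op).hom ψ)
  have hθψ : M.subscheme.basicOpen θ = M.subscheme.basicOpen ψ := by
    rw [hθ, Scheme.basicOpen_res]
    exact inf_eq_right.mpr hψW
  obtain ⟨g₁, hg₁⟩ := q₁.app_surjective V₁ hV₁ θ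
  obtain ⟨g₂, hg₂⟩ := q₂.app_surjective V₂ hV₂ ψ
  have hg₁' : (q₁.app V₁).hom g₁ = θ := hg₁
  have hg₂' : (q₂.app V₂).hom g₂ = ψ := hg₂
  let F₁ : Finset Y₁ := T.preimage ι₁ (ι₁.isClosedEmbedding.injective.injOn)
  let F₂ : Finset Y₂ := T.preimage ι₂ (ι₂.isClosedEmbedding.injective.injOn)
  obtain ⟨f₁, hf₁, hf₁F⟩ := exists_adjust q₁ V₁ hV₁ g₁ F₁
    (fun y hy => hT₁ y (Finset.mem_preimage.mp hy))
    (by
      rintro _ hy ⟨y', rfl⟩
      have hy'T : y' ∈ T₁₂ := by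
        refine Finset.mem_preimage.mpr ?_
        rw [← hι₁q]; exact Finset.mem_preimage.mp hy
      have h1 : y' ∈ M.subscheme.basicOpen θ := hθψ ▸ hψT y' hy'T
      have p1 : q₁ ⁻¹ᵁ (Y₁.basicOpen g₁) = M.subscheme.basicOpen ((q₁.app V₁).hom g₁) :=
        Scheme.preimage_basicOpen q₁ g₁
      rw [← hg₁', ← p1] at h1
      exact h1)
  obtain ⟨f₂, hf₂, hf₂F⟩ := exists_adjust q₂ V₂ hV₂ g₂ F₂
    (fun y hy => hT₂ y (Finset.mem_preimage.mp hy))
    (by
      rintro _ hy ⟨y', rfl⟩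
      have hy'T : y' ∈ T₁₂ := by
        refine Finset.mem_preimage.mpr ?_
        rw [← hι₂q]; exact Finset.mem_preimage.mp hy
      have h1 : y' ∈ M.subscheme.basicOpen ψ := hψT y' hy'T
      have p1 : q₂ ⁻¹ᵁ (Y₂.basicOpen g₂) = M.subscheme.basicOpen ((q₂.app V₂).hom g₂) :=
        Scheme.preimage_basicOpen q₂ g₂
      rw [← hg₂', ← p1] at h1
      exact h1)
  have hpre : q₁ ⁻¹ᵁ (Y₁.basicOpen f₁) = q₂ ⁻¹ᵁ (Y₂.basicOpen f₂) := by
    have p1 : q₁ ⁻¹ᵁ (Y₁.basicOpen f₁) = M.subscheme.basicOpen ((q₁.app V₁).hom f₁) :=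
      Scheme.preimage_basicOpen q₁ f₁
    have p2 : q₂ ⁻¹ᵁ (Y₂.basicOpen f₂) = M.subscheme.basicOpen ((q₂.app V₂).hom f₂) :=
      Scheme.preimage_basicOpen q₂ f₂
    rw [p1, p2, hf₁, hf₂, hg₁', hg₂', hθψ]
  -- the open
  let C : Set X := ι₁ '' ((Y₁.basicOpen f₁ : Set Y₁)ᶜ) ∪ ι₂ '' ((Y₂.basicOpen f₂ : Set Y₂)ᶜ)
  have hC : IsClosed C :=
    (ι₁.isClosedEmbedding.isClosedMap _ (Y₁.basicOpen f₁).isOpen.isClosed_compl).union
      (ι₂.isClosedEmbedding.isClosedMap _ (Y₂.basicOpen f₂).isOpen.isClosed_compl)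
  let U : X.Opens := ⟨Cᶜ, hC.isOpen_compl⟩
  have hU₁ : ι₁ ⁻¹ᵁ U = Y₁.basicOpen f₁ := by
    ext y
    constructor
    · intro hy
      by_contra hyn
      exact hy (Or.inl ⟨y, hyn, rfl⟩)
    · intro hy hC'
      rcases hC' with ⟨y₀, hy₀, e⟩ | ⟨y₂, hy₂, e⟩
      · exact hy₀ ((ι₁.isClosedEmbedding.injective e) ▸ hy)
      · obtain ⟨y', rfl, rfl⟩ := hpt y y₂ e.symm
        have h1 : y' ∈ q₁ ⁻¹ᵁ (Y₁.basicOpen f₁) := hy
        rw [hpre] at h1
        exact hy₂ h1
  have hU₂ : ι₂ ⁻¹ᵁ U = Y₂.basicOpen f₂ := by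
    ext y
    constructor
    · intro hy
      by_contra hyn
      exact hy (Or.inr ⟨y, hyn, rfl⟩)
    · intro hy hC'
      rcases hC' with ⟨y₁, hy₁, e⟩ | ⟨y₀, hy₀, e⟩
      · obtain ⟨y', rfl, rfl⟩ := hpt y₁ y e
        have h1 : y' ∈ q₂ ⁻¹ᵁ (Y₂.basicOpen f₂) := hy
        rw [← hpre] at h1
        exact hy₁ h1
      · exact hy₀ ((ι₂.isClosedEmbedding.injective e) ▸ hy)
  refine ⟨U, ?_, ?_, ?_⟩
  · intro t ht hC'
    rcases hC' with ⟨y, hy, e⟩ | ⟨y, hy, e⟩
    · exact hy (hf₁F y (Finset.mem_preimage.mpr (e ▸ ht)))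
    · exact hy (hf₂F y (Finset.mem_preimage.mpr (e ▸ ht)))
  · rw [hU₁]; exact hV₁.basicOpen f₁
  · rw [hU₂]; exact hV₂.basicOpen f₂

/-- two closed pieces: an affine open containing a finite set of points. -/
theorem exists_affineOpen_of_two {X Y₁ Y₂ : Scheme.{u}} (ι₁ : Y₁ ⟶ X) (ι₂ : Y₂ ⟶ X)
    [IsClosedImmersion ι₁] [IsClosedImmersion ι₂]
    (hcov : ∀ x : X, x ∈ Set.range ι₁ ∨ x ∈ Set.range ι₂) (T : Finset X)
    (V₁ : Y₁.Opens) (hV₁ : IsAffineOpen V₁) (V₂ : Y₂.Opens) (hV₂ : IsAffineOpen V₂)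
    (hT₁ : ∀ y : Y₁, ι₁ y ∈ T → y ∈ V₁) (hT₂ : ∀ y : Y₂, ι₂ y ∈ T → y ∈ V₂) :
    ∃ U : X.Opens, IsAffineOpen U ∧ ∀ t ∈ T, t ∈ U := by
  obtain ⟨U, hTU, h₁, h₂⟩ := exists_open_preimage_affine ι₁ ι₂ T V₁ hV₁ V₂ hV₂ hT₁ hT₂
  refine ⟨U, ?_, hTU⟩
  have a₁ : IsAffine (ι₁ ⁻¹ᵁ U).toScheme := h₁
  have a₂ : IsAffine (ι₂ ⁻¹ᵁ U).toScheme := h₂
  have c₁ : IsClosedImmersion (ι₁ ∣_ U) := IsZariskiLocalAtTarget.restrict ‹_› U
  have c₂ : IsClosedImmersion (ι₂ ∣_ U) := IsZariskiLocalAtTarget.restrict ‹_› U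
  refine isAffine_of_two_closed (ι₁ ∣_ U) (ι₂ ∣_ U) ?_
  rintro ⟨x, hx⟩
  rcases hcov x with ⟨y, rfl⟩ | ⟨y, rfl⟩
  · left
    exact ⟨⟨y, hx⟩, Subtype.ext (morphismRestrict_base_coe ι₁ U _)⟩
  · right
    exact ⟨⟨y, hx⟩, Subtype.ext (morphismRestrict_base_coe ι₂ U _)⟩

/-- **finitely many closed pieces**: if every piece has an affine open containing the points of `T`
on it, then `X` has an affine open containing `T`. -/
theorem exists_affineOpen_of_finite_closed_cover (κ : Type v) [Finite κ] :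
    ∀ (X : Scheme.{u}) (Y : κ → Scheme.{u}) (ι : ∀ k, Y k ⟶ X),
      (∀ k, IsClosedImmersion (ι k)) → (∀ x : X, ∃ k, x ∈ Set.range (ι k)) →
      ∀ (T : Finset X) (V : ∀ k, (Y k).Opens), (∀ k, IsAffineOpen (V k)) →
      (∀ k (y : Y k), ι k y ∈ T → y ∈ V k) → ∃ U : X.Opens, IsAffineOpen U ∧ ∀ t ∈ T, t ∈ U := by
  classical
  refine Finite.induction_empty_option (P := fun κ => ∀ (X : Scheme.{u}) (Y : κ → Scheme.{u})
    (ι : ∀ k, Y k ⟶ X), (∀ k, IsClosedImmersion (ι k)) → (∀ x : X, ∃ k, x ∈ Set.range (ι k)) →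
      ∀ (T : Finset X) (V : ∀ k, (Y k).Opens), (∀ k, IsAffineOpen (V k)) →
      (∀ k (y : Y k), ι k y ∈ T → y ∈ V k) → ∃ U : X.Opens, IsAffineOpen U ∧ ∀ t ∈ T, t ∈ U)
    ?_ ?_ ?_ κ
  · intro α β e hα X Y ι hcl hcov T V hV hT
    refine hα X (fun a => Y (e a)) (fun a => ι (e a)) (fun a => hcl _) ?_ T (fun a => V (e a))
      (fun a => hV _) (fun a y hy => hT _ y hy)
    intro x
    obtain ⟨k, hk⟩ := hcov x
    refine ⟨e.symm k, ?_⟩
    rw [e.apply_symm_apply]
    exact hk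
  · intro X Y ι hcl hcov T V hV hT
    exact ⟨⊥, isAffineOpen_bot X, fun t _ => (hcov t).choose.elim⟩
  · intro α _ hα X Y ι hcl hcov T V hV hT
    set J : α → X.IdealSheafData := fun a => (ι (some a)).ker with hJ
    set I' := ∏ a, J a with hI'
    have hker : I'.subschemeι.ker = I' := I'.ker_subschemeι
    have hle : ∀ a, I'.subschemeι.ker ≤ (ι (some a)).ker := fun a =>
      hker.le.trans (prod_le_of_mem Finset.univ J a (Finset.mem_univ a))
    have hcl' := fun a => hcl (some a)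
    let l : ∀ a, Y (some a) ⟶ I'.subscheme := fun a =>
      IsClosedImmersion.lift I'.subschemeι (ι (some a)) (hle a)
    have hl : ∀ a, l a ≫ I'.subschemeι = ι (some a) := fun a =>
      IsClosedImmersion.lift_fac _ _ _
    have hlcl : ∀ a, IsClosedImmersion (l a) := by
      intro a
      have : IsClosedImmersion (l a ≫ I'.subschemeι) := (hl a) ▸ hcl (some a)
      exact IsClosedImmersion.of_comp (l a) I'.subschemeι
    have hla : ∀ a (y : Y (some a)), I'.subschemeι (l a y) = ι (some a) y := fun a y => by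
      rw [← Scheme.Hom.comp_apply, hl a]
    let T' : Finset I'.subscheme :=
      T.preimage I'.subschemeι (I'.subschemeι.isClosedEmbedding.injective.injOn)
    obtain ⟨U', hU'aff, hU'T⟩ := hα I'.subscheme (fun a => Y (some a)) l hlcl (by
      intro x'
      have hx' : I'.subschemeι x' ∈ (I'.support : Set X) := by
        rw [← Scheme.IdealSheafData.range_subschemeι]
        exact ⟨x', rfl⟩
      obtain ⟨a, -, hxa⟩ := Set.mem_iUnion₂.mp (support_prod_subset Finset.univ J hx')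
      have hxa' : I'.subschemeι x' ∈ Set.range (ι (some a)) := by
        have h1 : ((J a).support : Set X) = closure (Set.range (ι (some a))) :=
          Scheme.Hom.support_ker (ι (some a))
        rw [h1, (ι (some a)).isClosedEmbedding.isClosed_range.closure_eq] at hxa
        exact hxa
      obtain ⟨z, hz⟩ := hxa'
      refine ⟨a, z, I'.subschemeι.isClosedEmbedding.injective ?_⟩
      rw [hla]
      exact hz) T' (fun a => V (some a)) (fun a => hV _) (by
      intro a y hy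
      refine hT (some a) y ?_
      rw [← hla]
      exact Finset.mem_preimage.mp hy)
    have := hcl none
    refine exists_affineOpen_of_two (ι none) I'.subschemeι ?_ T (V none) (hV none) U' hU'aff
      (hT none) (fun y hy => hU'T y (Finset.mem_preimage.mpr hy))
    intro x
    obtain ⟨k, z, hz⟩ := hcov x
    cases k with
    | none => exact Or.inl ⟨z, hz⟩
    | some a =>
      right
      refine ⟨l a z, ?_⟩
      rw [hla]
      exact hz

/-- affine open containing a finite set of points, via irreducible components. -/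
theorem exists_affineOpen_of_irreducibleComponents (X : Scheme.{u})
    (hX : (irreducibleComponents (X : Type u)).Finite) (T : Finset X)
    (h : ∀ (Z : Set X) (hZ : Z ∈ irreducibleComponents (X : Type u)),
      ∃ V : (Scheme.IdealSheafData.vanishingIdeal
          (⟨Z, isClosed_of_mem_irreducibleComponents Z hZ⟩ : TopologicalSpace.Closeds X)).subscheme.Opens,
        IsAffineOpen V ∧ ∀ t ∈ T, t ∈ Z → t ∈ (Scheme.IdealSheafData.vanishingIdeal
          (⟨Z, isClosed_of_mem_irreducibleComponents Z hZ⟩ : TopologicalSpace.Closeds X)).subschemeι.base '' (V : Set _)) :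
    ∃ U : X.Opens, IsAffineOpen U ∧ ∀ t ∈ T, t ∈ U := by
  have hfin : Finite {Z // Z ∈ irreducibleComponents (X : Type u)} := hX.to_subtype
  let I : {Z // Z ∈ irreducibleComponents (X : Type u)} → X.IdealSheafData := fun k =>
    Scheme.IdealSheafData.vanishingIdeal
      (⟨k.1, isClosed_of_mem_irreducibleComponents k.1 k.2⟩ : TopologicalSpace.Closeds X)
  have hrange : ∀ k, Set.range (I k).subschemeι = k.1 := by
    intro k
    rw [Scheme.IdealSheafData.range_subschemeι]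
    exact Scheme.IdealSheafData.coe_support_vanishingIdeal _
  choose V hVaff hVT using fun k : {Z // Z ∈ irreducibleComponents (X : Type u)} => h k.1 k.2
  refine exists_affineOpen_of_finite_closed_cover _ X (fun k => (I k).subscheme)
    (fun k => (I k).subschemeι) (fun k => inferInstance) ?_ T V hVaff ?_
  · intro x
    have hx : x ∈ ⋃₀ irreducibleComponents (X : Type u) := by
      rw [sUnion_irreducibleComponents]; trivial
    obtain ⟨Z, hZ, hxZ⟩ := hx
    exact ⟨⟨Z, hZ⟩, by rw [hrange]; exact hxZ⟩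
  · intro k y hy
    have hyk : (I k).subschemeι y ∈ k.1 := by
      rw [← hrange k]; exact ⟨y, rfl⟩
    obtain ⟨y', hy'V, hy'⟩ := hVT k _ hy hyk
    have : y' = y := (I k).subschemeι.isClosedEmbedding.injective hy'
    exact this ▸ hy'V

end Groth.Agent.Lib.Helper39.ThickAff
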