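import Groth.Agent.Lib.Helper39.ThickAff.General

/-!
# Morphisms of thickenings: affine / integral morphisms (helper39)
-/

set_option autoImplicit false
universe u
open AlgebraicGeometry CategoryTheory

namespace Groth.Agent.Lib.Helper39.ThickAff

/-- restriction of a thickening to an open is a thickening. -/
theorem restrict_thickening {X X' : Scheme.{u}} (i : X ⟶ X') [IsClosedImmersion i]
    (hi : Function.Surjective i) (W : X'.Opens) :
    IsClosedImmersion (i ∣_ W) ∧ Function.Surjective (i ∣_ W) := by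
  refine ⟨IsZariskiLocalAtTarget.restrict ‹_› W, ?_⟩
  rintro ⟨w, hw⟩
  obtain ⟨x, rfl⟩ := hi w
  refine ⟨⟨x, (show x ∈ i ⁻¹ᵁ W from hw)⟩, ?_⟩
  apply Subtype.ext
  exact morphismRestrict_base_coe i W _

/-- the preimage of an open whose preimage under a thickening is affine is affine. -/
theorem isAffineOpen_of_thickening {X X' : Scheme.{u}} (i : X ⟶ X') [IsClosedImmersion i]
    (hi : Function.Surjective i) (W : X'.Opens) (hW : IsAffineOpen (i ⁻¹ᵁ W)) :
    IsAffineOpen W := by
  obtain ⟨h1, h2⟩ := restrict_thickening i hi W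
  have : IsAffine (i ⁻¹ᵁ W).toScheme := hW
  exact isAffine_of_surjective (i ∣_ W) h2

theorem isAffineHom_iff {X X' S S' : Scheme.{u}} (iX : X ⟶ X') (iS : S ⟶ S') (f : X ⟶ S)
    (f' : X' ⟶ S') [IsClosedImmersion iX] (hXs : Function.Surjective iX) [IsClosedImmersion iS]
    (w : iX ≫ f' = f ≫ iS) :
    IsAffineHom f ↔ IsAffineHom f' := by
  constructor
  · intro hf
    refine ⟨fun U' hU' => ?_⟩
    apply isAffineOpen_of_thickening iX hXs
    have h1 : iX ⁻¹ᵁ (f' ⁻¹ᵁ U') = f ⁻¹ᵁ (iS ⁻¹ᵁ U') := by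
      rw [← Scheme.Hom.comp_preimage, ← Scheme.Hom.comp_preimage, w]
    rw [h1]
    exact (hU'.preimage iS).preimage f
  · intro hf'
    have : IsAffineHom (f ≫ iS) := w ▸ inferInstance
    exact IsAffineHom.of_comp f iS

/-- integrality descends along a surjection with nil kernel. -/
theorem isIntegral_of_nil {R A B : Type*} [CommRing R] [CommRing A] [CommRing B] (φ : R →+* A)
    (ψ : A →+* B) (hnil : ∀ x, ψ x = 0 → IsNilpotent x) (h : (ψ.comp φ).IsIntegral) :
    φ.IsIntegral := by
  intro x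
  obtain ⟨p, hp, hpx⟩ := h (ψ x)
  rw [← Polynomial.hom_eval₂] at hpx
  obtain ⟨n, hn⟩ := hnil _ hpx
  refine ⟨p ^ n, hp.pow n, ?_⟩
  rw [Polynomial.eval₂_pow, hn]

/-- integral morphisms and thickenings. -/
theorem isIntegralHom_iff {X X' S S' : Scheme.{u}} (iX : X ⟶ X') (iS : S ⟶ S') (f : X ⟶ S)
    (f' : X' ⟶ S') [IsClosedImmersion iX] (hXs : Function.Surjective iX) [IsClosedImmersion iS]
    (w : iX ≫ f' = f ≫ iS) :
    IsIntegralHom f ↔ IsIntegralHom f' := by
  constructor
  · intro hf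
    have haff : IsAffineHom f' := (isAffineHom_iff iX iS f f' hXs w).mp inferInstance
    refine ⟨fun U' hU' => ?_⟩
    have hcomp : IsIntegralHom (iX ≫ f') := w ▸ inferInstance
    have h1 := hcomp.isIntegral_app U' hU'
    rw [Scheme.Hom.comp_app] at h1
    refine isIntegral_of_nil (f'.app U').hom (iX.app (f' ⁻¹ᵁ U')).hom (fun x hx => ?_) h1
    exact isNilpotent_of_app_eq_zero iX hXs _ (hU'.preimage f').isCompact x hx
  · intro hf'
    have : IsIntegralHom (f ≫ iS) := w ▸ inferInstance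
    exact IsIntegralHom.of_comp f iS

end Groth.Agent.Lib.Helper39.ThickAff
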