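import Mathlib

/-!
# Thickenings of affine schemes: basic lemmas (helper39)

`i : Z ⟶ Y` a closed immersion, surjective on points, `Z` affine.
-/

set_option autoImplicit false
universe u
open AlgebraicGeometry CategoryTheory TopologicalSpace Opposite

namespace Groth.Agent.Lib.Helper39.ThickAff

variable {Z Y : Scheme.{u}} (i : Z ⟶ Y)

/-- restriction of a global function to an open. -/
noncomputable abbrev resTop (Z : Scheme.{u}) (V : Z.Opens) : Γ(Z, ⊤) →+* Γ(Z, V) :=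
  (Z.presheaf.map (homOfLE (le_top : V ≤ ⊤)).op).hom

theorem basicOpen_resTop (V : Z.Opens) (q : Γ(Z, ⊤)) :
    Z.basicOpen (resTop Z V q) = V ⊓ Z.basicOpen q :=
  Scheme.basicOpen_res Z q (homOfLE (le_top : V ≤ ⊤)).op

theorem le_of_preimage_le (hsurj : Function.Surjective i) {V W : Y.Opens}
    (h : i ⁻¹ᵁ V ≤ i ⁻¹ᵁ W) : V ≤ W := by
  intro y hy
  obtain ⟨z, rfl⟩ := hsurj y
  exact h (show z ∈ i ⁻¹ᵁ V from hy)

theorem eq_of_preimage_eq (hsurj : Function.Surjective i) {V W : Y.Opens}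
    (h : i ⁻¹ᵁ V = i ⁻¹ᵁ W) : V = W :=
  le_antisymm (le_of_preimage_le i hsurj h.le) (le_of_preimage_le i hsurj h.ge)

/-- naturality of `i.app` with respect to restriction, elementwise. -/
theorem app_res {V W : Y.Opens} (h : V ≤ W) (x : Γ(Y, W)) :
    (i.app V).hom ((Y.presheaf.map (homOfLE h).op).hom x) =
      (Z.presheaf.map (homOfLE (show i ⁻¹ᵁ V ≤ i ⁻¹ᵁ W from fun _ hz => h hz)).op).hom
        ((i.app W).hom x) := by
  have := i.naturality (homOfLE h).op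
  exact congrArg (fun φ => φ.hom x) this

variable [IsClosedImmersion i]

/-- **basic lift**: inside an affine open `V` of `Y` whose preimage is `D(hV)`, the open with
preimage `D(hV * q)` is a basic open of `V`. -/
theorem exists_basicOpen_lift (V : Y.Opens) (hV : IsAffineOpen V) (hv : Γ(Z, ⊤))
    (e : i ⁻¹ᵁ V = Z.basicOpen hv) (q : Γ(Z, ⊤)) :
    ∃ β : Γ(Y, V), (i.app V).hom β = resTop Z (i ⁻¹ᵁ V) q ∧
      i ⁻¹ᵁ (Y.basicOpen β) = Z.basicOpen (hv * q) := by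
  obtain ⟨β, hβ⟩ := i.app_surjective V hV (resTop Z (i ⁻¹ᵁ V) q)
  refine ⟨β, hβ, ?_⟩
  rw [Scheme.preimage_basicOpen]
  have : (i.app V) β = resTop Z (i ⁻¹ᵁ V) q := hβ
  rw [this, basicOpen_resTop, e, Scheme.basicOpen_mul]

theorem isAffineOpen_of_preimage_eq (hsurj : Function.Surjective i) (V : Y.Opens)
    (hV : IsAffineOpen V) (hv : Γ(Z, ⊤)) (e : i ⁻¹ᵁ V = Z.basicOpen hv) (q : Γ(Z, ⊤))
    (W : Y.Opens) (hW : i ⁻¹ᵁ W = Z.basicOpen (hv * q)) :
    ∃ β : Γ(Y, V), (i.app V).hom β = resTop Z (i ⁻¹ᵁ V) q ∧ W = Y.basicOpen β := by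
  obtain ⟨β, hβ, hβ'⟩ := exists_basicOpen_lift i V hV hv e q
  exact ⟨β, hβ, eq_of_preimage_eq i hsurj (hW.trans hβ'.symm)⟩

/-- clearing denominators inside the kernel. -/
theorem exists_pow_mul_mem_ker (V : Y.Opens) (hV : IsAffineOpen V) (β : Γ(Y, V))
    (W : Y.Opens) (hW : W = Y.basicOpen β) (hWV : W ≤ V)
    (ν : Γ(Y, W)) (hν : (i.app W).hom ν = 0) :
    ∃ (n : ℕ) (m : Γ(Y, V)), (i.app V).hom m = 0 ∧
      (Y.presheaf.map (homOfLE hWV).op).hom m =
        (Y.presheaf.map (homOfLE hWV).op).hom β ^ n * ν := by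
  have hloc := hV.isLocalization_of_eq_basicOpen β (homOfLE hWV) hW
  let _ := (Y.presheaf.map (homOfLE hWV).op).hom.toAlgebra
  obtain ⟨⟨r, ⟨_, n, rfl⟩⟩, hr⟩ := IsLocalization.surj (Submonoid.powers β) ν
  have hr' : ν * (Y.presheaf.map (homOfLE hWV).op).hom β ^ n =
      (Y.presheaf.map (homOfLE hWV).op).hom r := by
    simpa [RingHom.algebraMap_toAlgebra] using hr
  -- `i.app V r` vanishes on the basic open of `i.app V β`
  have hZV : IsAffineOpen (i ⁻¹ᵁ V) := hV.preimage i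
  have h0 : (i.app W).hom ((Y.presheaf.map (homOfLE hWV).op).hom r) = 0 := by
    rw [← hr', map_mul, hν, zero_mul]
  rw [app_res i hWV r] at h0
  have hpre : i ⁻¹ᵁ W = Z.basicOpen ((i.app V).hom β) := by
    rw [hW, Scheme.preimage_basicOpen]
  have h1 : ∀ (U : Z.Opens) (_ : U = i ⁻¹ᵁ W) (hle : U ≤ i ⁻¹ᵁ V),
      (Z.presheaf.map (homOfLE hle).op).hom ((i.app V).hom r) = 0 := by
    rintro U rfl hle
    exact h0
  obtain ⟨k, hk⟩ := exists_pow_mul_eq_zero_of_res_basicOpen_eq_zero_of_isAffineOpen Z hZV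
    ((i.app V).hom r) ((i.app V).hom β) (h1 _ hpre.symm _)
  refine ⟨k + n, β ^ k * r, ?_, ?_⟩
  · rw [map_mul, map_pow]
    exact hk
  · rw [map_mul, map_pow, ← hr', pow_add]
    ring

end Groth.Agent.Lib.Helper39.ThickAff
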