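import Groth.Agent.Lib.Helper39.ThickAff.QuasiAffine

/-!
# A scheme covered by finitely many affine closed subschemes is affine (helper39)

Direct proof (no Chevalley / cohomology): for two pieces with `I₁ ⊓ I₂ = ⊥`, global functions are
pairs of functions agreeing on the intersection; the basic opens of global functions contained in
affine opens form a basis, and every maximal ideal of `Γ(X, ⊤)` comes from a point.  The general
case follows from the thickening theorem.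
-/

set_option autoImplicit false
universe u v
open AlgebraicGeometry CategoryTheory TopologicalSpace Opposite

namespace Groth.Agent.Lib.Helper39.ThickAff

/-- sections along a composite, via `resTop`. -/
theorem app_comp_resTop {Y Z X : Scheme.{u}} (f : Y ⟶ Z) (g : Z ⟶ X) (h : Y ⟶ X) (e : f ≫ g = h)
    (W : X.Opens) (r : Γ(X, W)) (a : Γ(Z, ⊤))
    (hr : (g.app W).hom r = resTop Z (g ⁻¹ᵁ W) a) :
    (h.app W).hom r = resTop Y (h ⁻¹ᵁ W) (f.appTop.hom a) := by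
  subst e
  change (f.app (g ⁻¹ᵁ W)).hom ((g.app W).hom r) = _
  rw [hr]
  exact app_res f (le_top : g ⁻¹ᵁ W ≤ ⊤) a

/-- a point outside a closed subscheme of an affine scheme is separated by a function of the
kernel. -/
theorem exists_mem_ker_basicOpen {Y Z : Scheme.{u}} (q : Y ⟶ Z) [IsClosedImmersion q] [IsAffine Z]
    (z : Z) (hz : z ∉ Set.range q) :
    ∃ j : Γ(Z, ⊤), q.appTop.hom j = 0 ∧ z ∈ Z.basicOpen j := by
  have hY : IsAffine Y := (IsClosedImmersion.isAffine_surjective_of_isAffine q).1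
  have hcl : IsClosed (Set.range q) := q.isClosedEmbedding.isClosed_range
  obtain ⟨_, ⟨_, ⟨j₀, rfl⟩, rfl⟩, hzj, hjO⟩ := (isBasis_basicOpen Z).exists_subset_of_mem_open
    (show z ∈ (Set.range q)ᶜ from hz) hcl.isOpen_compl
  have hbot : Y.basicOpen (q.appTop.hom j₀) = ⊥ := by
    have h1 : q ⁻¹ᵁ (Z.basicOpen j₀) = Y.basicOpen (q.appTop.hom j₀) :=
      Scheme.preimage_basicOpen q j₀
    rw [← h1]
    ext y
    simp only [Opens.coe_bot, Set.mem_empty_iff_false, iff_false]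
    intro hy
    exact hjO hy ⟨y, rfl⟩
  obtain ⟨n, hn⟩ := (Scheme.isNilpotent_iff_basicOpen_eq_bot (q.appTop.hom j₀)).mpr hbot
  refine ⟨j₀ ^ (n + 1), ?_, ?_⟩
  · rw [map_pow, pow_succ, hn, zero_mul]
  · rw [Scheme.basicOpen_pow _ _ (Nat.succ_pos n)]
    exact hzj

theorem app_eq_zero_of_eq {Y X : Scheme.{u}} {f g : Y ⟶ X} (e : f = g) (U : X.Opens)
    (r : Γ(X, U)) (h : (f.app U).hom r = 0) : (g.app U).hom r = 0 := by
  subst e; exact h

section Core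

variable {X Z₁ Z₂ Z₁₂ : Scheme.{u}} (ι₁ : Z₁ ⟶ X) (ι₂ : Z₂ ⟶ X) (ι₁₂ : Z₁₂ ⟶ X)
  [IsClosedImmersion ι₁] [IsClosedImmersion ι₂] [IsClosedImmersion ι₁₂]
  (q₁ : Z₁₂ ⟶ Z₁) (q₂ : Z₁₂ ⟶ Z₂)

/-- local gluing on an affine open. -/
theorem exists_local_glue (h₁ : q₁ ≫ ι₁ = ι₁₂) (h₂ : q₂ ≫ ι₂ = ι₁₂)
    (hsup : ι₁₂.ker = ι₁.ker ⊔ ι₂.ker) (W : X.Opens) (hW : IsAffineOpen W)
    (a₁ : Γ(Z₁, ⊤)) (a₂ : Γ(Z₂, ⊤)) (hc : q₁.appTop.hom a₁ = q₂.appTop.hom a₂) :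
    ∃ b : Γ(X, W), (ι₁.app W).hom b = resTop Z₁ (ι₁ ⁻¹ᵁ W) a₁ ∧
      (ι₂.app W).hom b = resTop Z₂ (ι₂ ⁻¹ᵁ W) a₂ := by
  obtain ⟨r₁, hr₁⟩ := ι₁.app_surjective W hW (resTop Z₁ (ι₁ ⁻¹ᵁ W) a₁)
  obtain ⟨r₂, hr₂⟩ := ι₂.app_surjective W hW (resTop Z₂ (ι₂ ⁻¹ᵁ W) a₂)
  have e₁ := app_comp_resTop q₁ ι₁ ι₁₂ h₁ W r₁ a₁ hr₁
  have e₂ := app_comp_resTop q₂ ι₂ ι₁₂ h₂ W r₂ a₂ hr₂
  have hmem : r₁ - r₂ ∈ ι₁₂.ker.ideal ⟨W, hW⟩ := by
    rw [Scheme.Hom.ker_apply, RingHom.mem_ker, map_sub, e₁, e₂, hc, sub_self]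
  rw [hsup] at hmem
  change r₁ - r₂ ∈ ι₁.ker.ideal ⟨W, hW⟩ ⊔ ι₂.ker.ideal ⟨W, hW⟩ at hmem
  obtain ⟨c₁, hc₁, c₂, hc₂, hcc⟩ := Submodule.mem_sup.mp hmem
  rw [Scheme.Hom.ker_apply, RingHom.mem_ker] at hc₁ hc₂
  refine ⟨r₁ - c₁, ?_, ?_⟩
  · rw [map_sub, hc₁, sub_zero]; exact hr₁
  · have : r₁ - c₁ = r₂ + c₂ := by
      have h3 : r₁ = r₂ + (c₁ + c₂) := by rw [hcc]; ring
      rw [h3]; ring
    rw [this, map_add, hc₂, add_zero]; exact hr₂

/-- local uniqueness on an affine open. -/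
theorem local_glue_unique (hinf : ι₁.ker ⊓ ι₂.ker = ⊥) (W : X.Opens) (hW : IsAffineOpen W)
    (b b' : Γ(X, W)) (e₁ : (ι₁.app W).hom b = (ι₁.app W).hom b')
    (e₂ : (ι₂.app W).hom b = (ι₂.app W).hom b') : b = b' := by
  have hmem : b - b' ∈ (ι₁.ker ⊓ ι₂.ker).ideal ⟨W, hW⟩ := by
    change b - b' ∈ ι₁.ker.ideal ⟨W, hW⟩ ⊓ ι₂.ker.ideal ⟨W, hW⟩
    rw [Scheme.Hom.ker_apply, Scheme.Hom.ker_apply]
    exact ⟨RingHom.mem_ker.mpr (by rw [map_sub, e₁, sub_self]),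
      RingHom.mem_ker.mpr (by rw [map_sub, e₂, sub_self])⟩
  rw [hinf] at hmem
  exact sub_eq_zero.mp hmem

/-- restriction of a glued local section is the local section of the smaller affine open. -/
theorem exists_glue (h₁ : q₁ ≫ ι₁ = ι₁₂) (h₂ : q₂ ≫ ι₂ = ι₁₂)
    (hsup : ι₁₂.ker = ι₁.ker ⊔ ι₂.ker) (hinf : ι₁.ker ⊓ ι₂.ker = ⊥)
    (a₁ : Γ(Z₁, ⊤)) (a₂ : Γ(Z₂, ⊤)) (hc : q₁.appTop.hom a₁ = q₂.appTop.hom a₂) :
    ∃ b : Γ(X, ⊤), ι₁.appTop.hom b = a₁ ∧ ι₂.appTop.hom b = a₂ := by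
  have hloc := fun W : X.affineOpens =>
    exists_local_glue ι₁ ι₂ ι₁₂ q₁ q₂ h₁ h₂ hsup W.1 W.2 a₁ a₂ hc
  choose β hβ₁ hβ₂ using hloc
  -- restriction compatibility
  have hres : ∀ (W W'' : X.affineOpens) (hle : W''.1 ≤ W.1),
      (X.presheaf.map (homOfLE hle).op).hom (β W) = β W'' := by
    intro W W'' hle
    refine local_glue_unique ι₁ ι₂ hinf W''.1 W''.2 _ _ ?_ ?_
    · rw [app_res ι₁ hle, hβ₁, hβ₁, res_resTop]
    · rw [app_res ι₂ hle, hβ₂, hβ₂, res_resTop]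
  have hcovtop : (⊤ : X.Opens) ≤ iSup fun W : X.affineOpens => W.1 := by
    intro x _
    obtain ⟨_, ⟨V, hV, rfl⟩, hxV, -⟩ :=
      X.isBasis_affineOpens.exists_subset_of_mem_open (Set.mem_univ x) isOpen_univ
    exact Opens.mem_iSup.mpr ⟨⟨V, hV⟩, hxV⟩
  obtain ⟨b, hb⟩ := scheme_glue X (fun W : X.affineOpens => W.1) ⊤ (fun _ => le_top) hcovtop β
    (by
      intro W W'
      refine scheme_sep X (fun W'' : {W'' : X.affineOpens // W''.1 ≤ W.1 ⊓ W'.1} => W''.1.1)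
        (W.1 ⊓ W'.1) (fun W'' => W''.2) ?_ _ _ ?_
      · intro x hx
        obtain ⟨_, ⟨V, hV, rfl⟩, hxV, hVW⟩ :=
          X.isBasis_affineOpens.exists_subset_of_mem_open hx (W.1 ⊓ W'.1).isOpen
        exact Opens.mem_iSup.mpr ⟨⟨⟨V, hV⟩, hVW⟩, hxV⟩
      · rintro ⟨W'', hW''⟩
        rw [res_res, res_res, hres W W'' (hW''.trans inf_le_left),
          hres W' W'' (hW''.trans inf_le_right)])
  refine ⟨b, ?_, ?_⟩
  · refine scheme_sep Z₁ (fun W : X.affineOpens => ι₁ ⁻¹ᵁ W.1) ⊤ (fun _ => le_top) ?_ _ _ ?_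
    · intro z _
      obtain ⟨W, hW⟩ := Opens.mem_iSup.mp (hcovtop (show ι₁ z ∈ (⊤ : X.Opens) from trivial))
      exact Opens.mem_iSup.mpr ⟨W, hW⟩
    · intro W
      have := app_res ι₁ (le_top : W.1 ≤ ⊤) b
      rw [hb W, hβ₁] at this
      exact this.symm
  · refine scheme_sep Z₂ (fun W : X.affineOpens => ι₂ ⁻¹ᵁ W.1) ⊤ (fun _ => le_top) ?_ _ _ ?_
    · intro z _
      obtain ⟨W, hW⟩ := Opens.mem_iSup.mp (hcovtop (show ι₂ z ∈ (⊤ : X.Opens) from trivial))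
      exact Opens.mem_iSup.mpr ⟨W, hW⟩
    · intro W
      have := app_res ι₂ (le_top : W.1 ≤ ⊤) b
      rw [hb W, hβ₂] at this
      exact this.symm

/-- a global function killed by both restrictions vanishes. -/
theorem eq_zero_of_appTop_eq_zero (hinf : ι₁.ker ⊓ ι₂.ker = ⊥) (b : Γ(X, ⊤))
    (e₁ : ι₁.appTop.hom b = 0) (e₂ : ι₂.appTop.hom b = 0) : b = 0 := by
  refine scheme_sep X (fun W : X.affineOpens => W.1) ⊤ (fun _ => le_top) ?_ _ _ ?_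
  · intro x _
    obtain ⟨_, ⟨V, hV, rfl⟩, hxV, -⟩ :=
      X.isBasis_affineOpens.exists_subset_of_mem_open (Set.mem_univ x) isOpen_univ
    exact Opens.mem_iSup.mpr ⟨⟨V, hV⟩, hxV⟩
  · intro W
    refine local_glue_unique ι₁ ι₂ hinf W.1 W.2 _ _ ?_ ?_
    · have h := app_res ι₁ (le_top : W.1 ≤ ⊤) b
      have e : (ι₁.app ⊤).hom b = 0 := e₁
      rw [h, e, map_zero, map_zero, map_zero]
    · have h := app_res ι₂ (le_top : W.1 ≤ ⊤) b
      have e : (ι₂.app ⊤).hom b = 0 := e₂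
      rw [h, e, map_zero, map_zero, map_zero]

variable [IsAffine Z₁] [IsAffine Z₂]

/-- basis lemma: global functions with small non-vanishing locus around a point of `Z₁`. -/
theorem exists_basicOpen_le (h₁ : q₁ ≫ ι₁ = ι₁₂) (h₂ : q₂ ≫ ι₂ = ι₁₂)
    (hsup : ι₁₂.ker = ι₁.ker ⊔ ι₂.ker) (hinf : ι₁.ker ⊓ ι₂.ker = ⊥)
    (hcov : ∀ x : X, x ∈ Set.range ι₁ ∨ x ∈ Set.range ι₂)
    (W : X.Opens) (z₁ : Z₁) (hz : ι₁ z₁ ∈ W) :
    ∃ b : Γ(X, ⊤), ι₁ z₁ ∈ X.basicOpen b ∧ X.basicOpen b ≤ W := by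
  have hq₂cl : IsClosedImmersion q₂ := by
    have : IsClosedImmersion (q₂ ≫ ι₂) := h₂ ▸ inferInstance
    exact IsClosedImmersion.of_comp q₂ ι₂
  have hq₂surj : Function.Surjective q₂.appTop.hom :=
    (IsClosedImmersion.isAffine_surjective_of_isAffine q₂).2
  -- a function on `Z₁`
  obtain ⟨_, ⟨_, ⟨a₁', rfl⟩, rfl⟩, hz₁a, ha₁W⟩ := (isBasis_basicOpen Z₁).exists_subset_of_mem_open
    (show z₁ ∈ ((ι₁ ⁻¹ᵁ W : Z₁.Opens) : Set Z₁) from hz) (ι₁ ⁻¹ᵁ W).isOpen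
  obtain ⟨a₂', ha₂'⟩ := hq₂surj (q₁.appTop.hom a₁')
  set S : Set Γ(Z₂, ⊤) := {k | Z₂.basicOpen k ≤ ι₂ ⁻¹ᵁ W} with hS
  set J₂ : Ideal Γ(Z₂, ⊤) := RingHom.ker q₂.appTop.hom with hJ₂
  have hrad : a₂' ∈ (Ideal.span (S ∪ (J₂ : Set Γ(Z₂, ⊤)))).radical := by
    refine mem_radical_of_basicOpen_le Z₂ a₂' _ fun z hza => ?_
    by_cases hzW : ι₂ z ∈ W
    · obtain ⟨_, ⟨_, ⟨k, rfl⟩, rfl⟩, hzk, hkW⟩ := (isBasis_basicOpen Z₂).exists_subset_of_mem_open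
        (show z ∈ ((ι₂ ⁻¹ᵁ W : Z₂.Opens) : Set Z₂) from hzW) (ι₂ ⁻¹ᵁ W).isOpen
      exact ⟨k, Or.inl hkW, hzk⟩
    · have hzr : z ∉ Set.range q₂ := by
        rintro ⟨y, rfl⟩
        apply hzW
        have hy1 : y ∈ q₂ ⁻¹ᵁ (Z₂.basicOpen a₂') := hza
        have p2 : q₂ ⁻¹ᵁ (Z₂.basicOpen a₂') = Z₁₂.basicOpen (q₂.appTop.hom a₂') :=
          Scheme.preimage_basicOpen q₂ a₂'
        have p1 : q₁ ⁻¹ᵁ (Z₁.basicOpen a₁') = Z₁₂.basicOpen (q₁.appTop.hom a₁') :=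
          Scheme.preimage_basicOpen q₁ a₁'
        rw [p2, ha₂', ← p1] at hy1
        have hy2 : ι₁ (q₁ y) ∈ W := ha₁W hy1
        have e2 : ι₁ (q₁ y) = ι₂ (q₂ y) := by
          rw [← Scheme.Hom.comp_apply, ← Scheme.Hom.comp_apply, h₁, h₂]
        rw [← e2]
        exact hy2
      obtain ⟨j, hj0, hzj⟩ := exists_mem_ker_basicOpen q₂ z hzr
      exact ⟨j, Or.inr (RingHom.mem_ker.mpr hj0), hzj⟩
  obtain ⟨N, hN⟩ := hrad
  have hN1 : a₂' ^ (N + 1) ∈ Ideal.span S ⊔ J₂ := by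
    have : a₂' ^ (N + 1) ∈ Ideal.span (S ∪ (J₂ : Set Γ(Z₂, ⊤))) := by
      rw [pow_succ]
      exact Ideal.mul_mem_right _ _ hN
    rwa [Ideal.span_union, Ideal.span_eq] at this
  obtain ⟨k, hk, j, hj, hkj⟩ := Submodule.mem_sup.mp hN1
  have hc : q₁.appTop.hom (a₁' ^ (N + 1)) = q₂.appTop.hom k := by
    have hk' : k = a₂' ^ (N + 1) - j := eq_sub_of_add_eq hkj
    rw [hk', map_sub, map_pow, map_pow, ha₂', RingHom.mem_ker.mp hj, sub_zero]
  obtain ⟨b, hb₁, hb₂⟩ := exists_glue ι₁ ι₂ ι₁₂ q₁ q₂ h₁ h₂ hsup hinf _ _ hc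
  have hpre₁ : ι₁ ⁻¹ᵁ (X.basicOpen b) = Z₁.basicOpen a₁' := by
    rw [Scheme.preimage_basicOpen]
    have : (ι₁.app ⊤) b = a₁' ^ (N + 1) := hb₁
    have h2 : Z₁.basicOpen (a₁' ^ (N + 1)) = Z₁.basicOpen a₁' :=
      Scheme.basicOpen_pow _ _ (Nat.succ_pos N)
    rw [this]
    exact h2
  have hpre₂ : ι₂ ⁻¹ᵁ (X.basicOpen b) = Z₂.basicOpen k := by
    rw [Scheme.preimage_basicOpen]
    have : (ι₂.app ⊤) b = k := hb₂
    rw [this]
    rfl
  refine ⟨b, ?_, ?_⟩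
  · exact (show z₁ ∈ ι₁ ⁻¹ᵁ (X.basicOpen b) from hpre₁ ▸ hz₁a)
  · intro x hx
    rcases hcov x with ⟨z, rfl⟩ | ⟨z, rfl⟩
    · have : z ∈ Z₁.basicOpen a₁' := hpre₁ ▸ (show z ∈ ι₁ ⁻¹ᵁ (X.basicOpen b) from hx)
      exact ha₁W this
    · have hzk : z ∈ Z₂.basicOpen k := hpre₂ ▸ (show z ∈ ι₂ ⁻¹ᵁ (X.basicOpen b) from hx)
      obtain ⟨s, hs, hzs⟩ := exists_mem_basicOpen_of_mem_span Z₂ k S hk z hzk
      exact hs hzs

/-- a prime of `Γ(X, ⊤)` containing the kernel of restriction to `Z₁` comes from a point of `Z₁`. -/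
theorem exists_point_of_ker_le (h₁ : q₁ ≫ ι₁ = ι₁₂) (h₂ : q₂ ≫ ι₂ = ι₁₂)
    (hsup : ι₁₂.ker = ι₁.ker ⊔ ι₂.ker) (hinf : ι₁.ker ⊓ ι₂.ker = ⊥)
    (m : Ideal Γ(X, ⊤)) [m.IsPrime] (hK : RingHom.ker ι₁.appTop.hom ≤ m) :
    ∃ z : Z₁, ∀ b ∈ m, ι₁ z ∉ X.basicOpen b := by
  have hq₂cl : IsClosedImmersion q₂ := by
    have : IsClosedImmersion (q₂ ≫ ι₂) := h₂ ▸ inferInstance
    exact IsClosedImmersion.of_comp q₂ ι₂
  have hq₂surj : Function.Surjective q₂.appTop.hom :=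
    (IsClosedImmersion.isAffine_surjective_of_isAffine q₂).2
  have hsurj : Function.Surjective ι₁.appTop.hom := by
    intro a₁
    obtain ⟨a₂, ha₂⟩ := hq₂surj (q₁.appTop.hom a₁)
    obtain ⟨b, hb, -⟩ := exists_glue ι₁ ι₂ ι₁₂ q₁ q₂ h₁ h₂ hsup hinf a₁ a₂ ha₂.symm
    exact ⟨b, hb⟩
  have hP : (Ideal.map ι₁.appTop.hom m).IsPrime := Ideal.map_isPrime_of_surjective hsurj hK
  obtain ⟨z, hz⟩ := exists_primeOf_eq Z₁ (Ideal.map ι₁.appTop.hom m)
  refine ⟨z, fun b hb hzb => ?_⟩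
  have h1 : z ∈ ι₁ ⁻¹ᵁ (X.basicOpen b) := hzb
  have p1 : ι₁ ⁻¹ᵁ (X.basicOpen b) = Z₁.basicOpen (ι₁.appTop.hom b) :=
    Scheme.preimage_basicOpen ι₁ b
  rw [p1] at h1
  have h2 := (mem_basicOpen_iff Z₁ z _).mp h1
  rw [hz] at h2
  exact h2 (Ideal.mem_map_of_mem _ hb)

/-- **core**: a scheme covered by two affine closed subschemes with trivial intersection of
ideal sheaves is affine. -/
theorem isAffine_of_two_closed_core (h₁ : q₁ ≫ ι₁ = ι₁₂) (h₂ : q₂ ≫ ι₂ = ι₁₂)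
    (hsup : ι₁₂.ker = ι₁.ker ⊔ ι₂.ker) (hinf : ι₁.ker ⊓ ι₂.ker = ⊥)
    (hcov : ∀ x : X, x ∈ Set.range ι₁ ∨ x ∈ Set.range ι₂) : IsAffine X := by
  have hsup' : ι₁₂.ker = ι₂.ker ⊔ ι₁.ker := by rw [hsup, sup_comm]
  have hinf' : ι₂.ker ⊓ ι₁.ker = ⊥ := by rw [inf_comm]; exact hinf
  have hbasis : ∀ (x : X) (W : X.Opens), x ∈ W →
      ∃ b : Γ(X, ⊤), x ∈ X.basicOpen b ∧ X.basicOpen b ≤ W := by
    intro x W hxW
    rcases hcov x with ⟨z, rfl⟩ | ⟨z, rfl⟩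
    · exact exists_basicOpen_le ι₁ ι₂ ι₁₂ q₁ q₂ h₁ h₂ hsup hinf hcov W z hxW
    · exact exists_basicOpen_le ι₂ ι₁ ι₁₂ q₂ q₁ h₂ h₁ hsup' hinf' (fun x => (hcov x).symm) W z hxW
  have haff : ∀ x : X, ∃ b : Γ(X, ⊤), IsAffineOpen (X.basicOpen b) ∧ x ∈ X.basicOpen b := by
    intro x
    obtain ⟨_, ⟨W, hW, rfl⟩, hxW, -⟩ :=
      X.isBasis_affineOpens.exists_subset_of_mem_open (Set.mem_univ x) isOpen_univ
    obtain ⟨b, hxb, hbW⟩ := hbasis x W hxW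
    refine ⟨b, ?_, hxb⟩
    have := hW.basicOpen (resTop X W b)
    rwa [basicOpen_resTop, inf_eq_right.mpr hbW] at this
  refine isAffine_of_isAffineOpen_basicOpen {b | IsAffineOpen (X.basicOpen b)} ?_ (fun b hb => hb)
  by_contra hne
  obtain ⟨m, hm, hle⟩ := Ideal.exists_le_maximal _ hne
  have hmp : m.IsPrime := hm.isPrime
  have hK : RingHom.ker ι₁.appTop.hom * RingHom.ker ι₂.appTop.hom ≤ m := by
    intro b hb
    have hb' := Ideal.mul_le_inf hb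
    have : b = 0 := eq_zero_of_appTop_eq_zero ι₁ ι₂ hinf b (RingHom.mem_ker.mp hb'.1)
      (RingHom.mem_ker.mp hb'.2)
    rw [this]
    exact m.zero_mem
  rcases hmp.mul_le.mp hK with hK₁ | hK₂
  · obtain ⟨z, hz⟩ := exists_point_of_ker_le ι₁ ι₂ ι₁₂ q₁ q₂ h₁ h₂ hsup hinf m hK₁
    obtain ⟨b, hb, hzb⟩ := haff (ι₁ z)
    exact hz b (hle (Ideal.subset_span hb)) hzb
  · obtain ⟨z, hz⟩ := exists_point_of_ker_le ι₂ ι₁ ι₁₂ q₂ q₁ h₂ h₁ hsup' hinf' m hK₂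
    obtain ⟨b, hb, hzb⟩ := haff (ι₂ z)
    exact hz b (hle (Ideal.subset_span hb)) hzb

end Core

/-- a scheme covered by two affine closed subschemes is affine. -/
theorem isAffine_of_two_closed {X Z₁ Z₂ : Scheme.{u}} (ι₁ : Z₁ ⟶ X) (ι₂ : Z₂ ⟶ X)
    [IsClosedImmersion ι₁] [IsClosedImmersion ι₂] [IsAffine Z₁] [IsAffine Z₂]
    (hcov : ∀ x : X, x ∈ Set.range ι₁ ∨ x ∈ Set.range ι₂) : IsAffine X := by
  set N := ι₁.ker ⊓ ι₂.ker with hN
  have hker : N.subschemeι.ker = N := N.ker_subschemeι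
  let ι₁' : Z₁ ⟶ N.subscheme :=
    IsClosedImmersion.lift N.subschemeι ι₁ (hker.le.trans inf_le_left)
  let ι₂' : Z₂ ⟶ N.subscheme :=
    IsClosedImmersion.lift N.subschemeι ι₂ (hker.le.trans inf_le_right)
  have e₁ : ι₁' ≫ N.subschemeι = ι₁ := IsClosedImmersion.lift_fac _ _ _
  have e₂ : ι₂' ≫ N.subschemeι = ι₂ := IsClosedImmersion.lift_fac _ _ _
  have hcl₁ : IsClosedImmersion ι₁' := by
    have : IsClosedImmersion (ι₁' ≫ N.subschemeι) := e₁ ▸ inferInstance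
    exact IsClosedImmersion.of_comp ι₁' N.subschemeι
  have hcl₂ : IsClosedImmersion ι₂' := by
    have : IsClosedImmersion (ι₂' ≫ N.subschemeι) := e₂ ▸ inferInstance
    exact IsClosedImmersion.of_comp ι₂' N.subschemeι
  have hsurj : Function.Surjective N.subschemeι := by
    intro x
    rcases hcov x with ⟨z, rfl⟩ | ⟨z, rfl⟩
    · exact ⟨ι₁' z, by rw [← Scheme.Hom.comp_apply, e₁]⟩
    · exact ⟨ι₂' z, by rw [← Scheme.Hom.comp_apply, e₂]⟩
  have hcov' : ∀ x' : N.subscheme, x' ∈ Set.range ι₁' ∨ x' ∈ Set.range ι₂' := by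
    intro x'
    rcases hcov (N.subschemeι x') with ⟨z, hz⟩ | ⟨z, hz⟩
    · left
      refine ⟨z, N.subschemeι.isClosedEmbedding.injective ?_⟩
      rw [← Scheme.Hom.comp_apply, e₁]; exact hz
    · right
      refine ⟨z, N.subschemeι.isClosedEmbedding.injective ?_⟩
      rw [← Scheme.Hom.comp_apply, e₂]; exact hz
  have hinf : ι₁'.ker ⊓ ι₂'.ker = ⊥ := by
    apply Scheme.IdealSheafData.ext
    funext U'
    rcases U' with ⟨U'', hU''⟩
    obtain ⟨U, rfl⟩ := exists_opens_preimage_eq N.subschemeι hsurj U''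
    have hU : IsAffineOpen U := isAffineOpen_of_thickening N.subschemeι hsurj U hU''
    change ι₁'.ker.ideal ⟨_, hU''⟩ ⊓ ι₂'.ker.ideal ⟨_, hU''⟩ = ⊥
    rw [Scheme.Hom.ker_apply, Scheme.Hom.ker_apply, eq_bot_iff]
    rintro b' ⟨hb₁, hb₂⟩
    obtain ⟨b, rfl⟩ := N.subschemeι.app_surjective U hU b'
    have hb₁' : (ι₁.app U).hom b = 0 := app_eq_zero_of_eq e₁ U b (RingHom.mem_ker.mp hb₁)
    have hb₂' : (ι₂.app U).hom b = 0 := app_eq_zero_of_eq e₂ U b (RingHom.mem_ker.mp hb₂)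
    have hbN : b ∈ N.ideal ⟨U, hU⟩ := by
      change b ∈ ι₁.ker.ideal ⟨U, hU⟩ ⊓ ι₂.ker.ideal ⟨U, hU⟩
      rw [Scheme.Hom.ker_apply, Scheme.Hom.ker_apply]
      exact ⟨RingHom.mem_ker.mpr hb₁', RingHom.mem_ker.mpr hb₂'⟩
    rw [← N.ker_subschemeι_app ⟨U, hU⟩] at hbN
    exact RingHom.mem_ker.mp hbN
  -- the intersection
  set M := ι₁'.ker ⊔ ι₂'.ker with hM
  have hkerM : M.subschemeι.ker = M := M.ker_subschemeι
  let q₁ : M.subscheme ⟶ Z₁ := IsClosedImmersion.lift ι₁' M.subschemeι (le_sup_left.trans hkerM.ge)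
  let q₂ : M.subscheme ⟶ Z₂ := IsClosedImmersion.lift ι₂' M.subschemeι (le_sup_right.trans hkerM.ge)
  have hq₁ : q₁ ≫ ι₁' = M.subschemeι := IsClosedImmersion.lift_fac _ _ _
  have hq₂ : q₂ ≫ ι₂' = M.subschemeι := IsClosedImmersion.lift_fac _ _ _
  have hX' : IsAffine N.subscheme :=
    isAffine_of_two_closed_core ι₁' ι₂' M.subschemeι q₁ q₂ hq₁ hq₂ hkerM hinf hcov'
  exact isAffine_of_surjective N.subschemeι hsurj


theorem support_prod_subset {X : Scheme.{u}} {α : Type*} (s : Finset α)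
    (J : α → X.IdealSheafData) :
    ((∏ a ∈ s, J a).support : Set X) ⊆ ⋃ a ∈ s, ((J a).support : Set X) := by
  classical
  induction s using Finset.induction_on with
  | empty =>
    intro x hx
    rw [Finset.prod_empty] at hx
    exact absurd hx (by simp [Scheme.IdealSheafData.support_top])
  | insert b s hb ih =>
    intro x hx
    rw [Finset.prod_insert hb, Scheme.IdealSheafData.support_mul] at hx
    rcases hx with hx | hx
    · exact Set.mem_biUnion (Finset.mem_insert_self b s) hx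
    · obtain ⟨a, ha, hxa⟩ := Set.mem_iUnion₂.mp (ih hx)
      exact Set.mem_biUnion (Finset.mem_insert_of_mem ha) hxa

theorem prod_le_of_mem {X : Scheme.{u}} {α : Type*} (s : Finset α) (J : α → X.IdealSheafData)
    (a : α) (ha : a ∈ s) : ∏ a ∈ s, J a ≤ J a := by
  classical
  induction s using Finset.induction_on with
  | empty => exact absurd ha (Finset.notMem_empty a)
  | insert b s hb ih =>
    rw [Finset.prod_insert hb]
    rcases Finset.mem_insert.mp ha with rfl | ha'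
    · intro U
      exact (Ideal.mul_le_inf (I := (J a).ideal U) (J := (∏ x ∈ s, J x).ideal U)).trans inf_le_left
    · refine le_trans ?_ (ih ha')
      intro U
      exact (Ideal.mul_le_inf (I := (J b).ideal U) (J := (∏ x ∈ s, J x).ideal U)).trans inf_le_right

theorem isAffine_of_isEmpty (X : Scheme.{u}) [IsEmpty X] : IsAffine X := by
  have h : (⊤ : X.Opens) = ⊥ := by
    ext x; exact isEmptyElim x
  have htop : IsAffineOpen (⊤ : X.Opens) := h ▸ isAffineOpen_bot X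
  have : IsAffine (⊤ : X.Opens).toScheme := htop
  exact .of_isIso (Scheme.topIso X).inv

/-- **a scheme covered by finitely many affine closed subschemes is affine.** -/
theorem isAffine_of_finite_closed_cover (κ : Type v) [Finite κ] :
    ∀ (X : Scheme.{u}) (Z : κ → Scheme.{u}) (ι : ∀ k, Z k ⟶ X),
      (∀ k, IsClosedImmersion (ι k)) → (∀ k, IsAffine (Z k)) →
      (∀ x : X, ∃ k, x ∈ Set.range (ι k)) → IsAffine X := by
  refine Finite.induction_empty_option (P := fun κ => ∀ (X : Scheme.{u}) (Z : κ → Scheme.{u})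
    (ι : ∀ k, Z k ⟶ X), (∀ k, IsClosedImmersion (ι k)) → (∀ k, IsAffine (Z k)) →
      (∀ x : X, ∃ k, x ∈ Set.range (ι k)) → IsAffine X) ?_ ?_ ?_ κ
  · intro α β e hα X Z ι hcl haff hcov
    refine hα X (fun a => Z (e a)) (fun a => ι (e a)) (fun a => hcl _) (fun a => haff _) ?_
    intro x
    obtain ⟨k, hk⟩ := hcov x
    refine ⟨e.symm k, ?_⟩
    rw [e.apply_symm_apply]
    exact hk
  · intro X Z ι hcl haff hcov
    have : IsEmpty X := ⟨fun x => (hcov x).choose.elim⟩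
    exact isAffine_of_isEmpty X
  · intro α _ hα X Z ι hcl haff hcov
    set J : α → X.IdealSheafData := fun a => (ι (some a)).ker with hJ
    set I' := ∏ a, J a with hI'
    have hker : I'.subschemeι.ker = I' := I'.ker_subschemeι
    have hle : ∀ a, I'.subschemeι.ker ≤ (ι (some a)).ker := fun a =>
      hker.le.trans (prod_le_of_mem Finset.univ J a (Finset.mem_univ a))
    have hcl' := fun a => hcl (some a)
    let l : ∀ a, Z (some a) ⟶ I'.subscheme := fun a =>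
      IsClosedImmersion.lift I'.subschemeι (ι (some a)) (hle a)
    have hl : ∀ a, l a ≫ I'.subschemeι = ι (some a) := fun a =>
      IsClosedImmersion.lift_fac _ _ _
    have hlcl : ∀ a, IsClosedImmersion (l a) := by
      intro a
      have : IsClosedImmersion (l a ≫ I'.subschemeι) := (hl a) ▸ hcl (some a)
      exact IsClosedImmersion.of_comp (l a) I'.subschemeι
    have hX' : IsAffine I'.subscheme := by
      refine hα I'.subscheme (fun a => Z (some a)) l hlcl (fun a => haff _) ?_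
      intro x'
      have hx' : I'.subschemeι x' ∈ (I'.support : Set X) := by
        rw [← Scheme.IdealSheafData.range_subschemeι]
        exact ⟨x', rfl⟩
      obtain ⟨a, -, hxa⟩ := Set.mem_iUnion₂.mp (support_prod_subset Finset.univ J hx')
      have hxa' : I'.subschemeι x' ∈ Set.range (ι (some a)) := by
        have h1 : ((J a).support : Set X) = closure (Set.range (ι (some a))) :=
          Scheme.Hom.support_ker (ι (some a))
        rw [h1, (ι (some a)).isClosedEmbedding.isClosed_range.closure_eq] at hxa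
        exact hxa
      obtain ⟨z, hz⟩ := hxa'
      refine ⟨a, z, I'.subschemeι.isClosedEmbedding.injective ?_⟩
      rw [← Scheme.Hom.comp_apply, hl a]
      exact hz
    have := hcl none
    have := haff none
    refine isAffine_of_two_closed (ι none) I'.subschemeι ?_
    intro x
    obtain ⟨k, z, hz⟩ := hcov x
    cases k with
    | none => exact Or.inl ⟨z, hz⟩
    | some a =>
      right
      refine ⟨l a z, ?_⟩
      rw [← Scheme.Hom.comp_apply, hl a]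
      exact hz

end Groth.Agent.Lib.Helper39.ThickAff
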