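import Groth.Agent.Lib.Helper39.ThickAff.TwoOpen

/-!
# Nilpotent thickenings of affine schemes are affine (helper39)
-/

set_option autoImplicit false
universe u
open AlgebraicGeometry CategoryTheory TopologicalSpace Opposite

namespace Groth.Agent.Lib.Helper39.ThickAff

section AffinePoints
variable (Z : Scheme.{u}) [IsAffine Z]

/-- the prime ideal of a point of an affine scheme. -/
noncomputable def primeOf (z : Z) : Ideal Γ(Z, ⊤) :=
  ((isAffineOpen_top Z).primeIdealOf ⟨z, trivial⟩).asIdeal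

instance (z : Z) : (primeOf Z z).IsPrime :=
  ((isAffineOpen_top Z).primeIdealOf ⟨z, trivial⟩).isPrime

theorem mem_basicOpen_iff (z : Z) (f : Γ(Z, ⊤)) : z ∈ Z.basicOpen f ↔ f ∉ primeOf Z z := by
  have hU := isAffineOpen_top Z
  have h1 := hU.fromSpec_primeIdealOf ⟨z, trivial⟩
  have h2 := hU.fromSpec_preimage_basicOpen f
  have h3 : hU.primeIdealOf ⟨z, trivial⟩ ∈ hU.fromSpec ⁻¹ᵁ Z.basicOpen f ↔ z ∈ Z.basicOpen f := by
    show hU.fromSpec (hU.primeIdealOf ⟨z, trivial⟩) ∈ Z.basicOpen f ↔ _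
    rw [h1]
  rw [← h3, h2]
  exact PrimeSpectrum.mem_basicOpen _ _

theorem exists_primeOf_eq (q : Ideal Γ(Z, ⊤)) [hq : q.IsPrime] : ∃ z : Z, primeOf Z z = q := by
  have hU := isAffineOpen_top Z
  refine ⟨hU.fromSpec ⟨q, hq⟩, ?_⟩
  have hmem : hU.fromSpec ⟨q, hq⟩ ∈ (⊤ : Z.Opens) := trivial
  have : hU.primeIdealOf ⟨hU.fromSpec ⟨q, hq⟩, hmem⟩ = ⟨q, hq⟩ := by
    apply hU.fromSpec.isOpenEmbedding.injective
    rw [hU.fromSpec_primeIdealOf]
  exact congrArg PrimeSpectrum.asIdeal this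

/-- a basic open covered by basic opens: radical membership. -/
theorem mem_radical_of_basicOpen_le (p : Γ(Z, ⊤)) (S : Set Γ(Z, ⊤))
    (h : ∀ z ∈ Z.basicOpen p, ∃ f ∈ S, z ∈ Z.basicOpen f) : p ∈ (Ideal.span S).radical := by
  rw [Ideal.radical_eq_sInf, Ideal.mem_sInf]
  rintro q ⟨hSq, hq⟩
  by_contra hpq
  obtain ⟨z, rfl⟩ := exists_primeOf_eq Z q
  obtain ⟨f, hfS, hzf⟩ := h z ((mem_basicOpen_iff Z z p).mpr hpq)
  exact (mem_basicOpen_iff Z z f).mp hzf (hSq (Ideal.subset_span hfS))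

theorem exists_mem_basicOpen_of_mem_span (g : Γ(Z, ⊤)) (S : Set Γ(Z, ⊤))
    (hg : g ∈ Ideal.span S) (z : Z) (hz : z ∈ Z.basicOpen g) : ∃ f ∈ S, z ∈ Z.basicOpen f := by
  by_contra hcon
  have hle : Ideal.span S ≤ primeOf Z z := by
    rw [Ideal.span_le]
    intro f hf
    by_contra hfz
    exact hcon ⟨f, hf, (mem_basicOpen_iff Z z f).mpr hfz⟩
  exact (mem_basicOpen_iff Z z g).mp hz (hle hg)

end AffinePoints

variable {Z Y : Scheme.{u}} (i : Z ⟶ Y) [IsClosedImmersion i]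

theorem exists_opens_preimage_eq (hsurj : Function.Surjective i) (V : Z.Opens) :
    ∃ W : Y.Opens, i ⁻¹ᵁ W = V := by
  let e := i.isClosedEmbedding.isEmbedding.toHomeomorphOfSurjective hsurj
  refine ⟨⟨i '' (V : Set Z), e.isOpenMap _ V.isOpen⟩, ?_⟩
  ext z
  constructor
  · rintro ⟨z', hz', hzz'⟩
    rwa [← i.isClosedEmbedding.injective hzz']
  · intro hz
    exact ⟨z, hz, rfl⟩

variable [IsAffine Z]

/-- **two-open affineness**. -/
theorem two_open_isAffineOpen (hsurj : Function.Surjective i) (m : ℕ)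
    (hm : ∀ U : Y.Opens, IsAffineOpen U → (RingHom.ker (i.app U).hom) ^ m = ⊥)
    (W₁ W₂ : Y.Opens) (h₁ : IsAffineOpen W₁) (h₂ : IsAffineOpen W₂) (p p₁ p₂ : Γ(Z, ⊤))
    (e₁ : i ⁻¹ᵁ W₁ = Z.basicOpen p₁) (e₂ : i ⁻¹ᵁ W₂ = Z.basicOpen p₂)
    (e : i ⁻¹ᵁ (W₁ ⊔ W₂) = Z.basicOpen p) : IsAffineOpen (W₁ ⊔ W₂) := by
  have hφ := two_open_surjective i hsurj m hm W₁ W₂ h₁ h₂ p p₁ p₂ e₁ e₂ e
  obtain ⟨γ₁, hγ₁⟩ := hφ (resTop Z _ p₁)
  obtain ⟨γ₂, hγ₂⟩ := hφ (resTop Z _ p₂)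
  have hb₁ : Y.basicOpen γ₁ = W₁ := by
    apply eq_of_preimage_eq i hsurj
    rw [Scheme.preimage_basicOpen]
    have : (i.app (W₁ ⊔ W₂)) γ₁ = resTop Z _ p₁ := hγ₁
    rw [this, basicOpen_resTop, e₁, ← e₁]
    exact inf_eq_right.mpr (pre_le i le_sup_left)
  have hb₂ : Y.basicOpen γ₂ = W₂ := by
    apply eq_of_preimage_eq i hsurj
    rw [Scheme.preimage_basicOpen]
    have : (i.app (W₁ ⊔ W₂)) γ₂ = resTop Z _ p₂ := hγ₂
    rw [this, basicOpen_resTop, e₂, ← e₂]
    exact inf_eq_right.mpr (pre_le i le_sup_right)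
  obtain ⟨x, y, hxy⟩ := exists_partition (i ⁻¹ᵁ (W₁ ⊔ W₂)) p p₁ p₂ e
    (by
      intro z hz
      rcases (show i z ∈ W₁ ⊔ W₂ from hz) with h | h
      · exact Or.inl (e₁ ▸ (show z ∈ i ⁻¹ᵁ W₁ from h))
      · exact Or.inr (e₂ ▸ (show z ∈ i ⁻¹ᵁ W₂ from h))) 1
  obtain ⟨x', hx'⟩ := hφ x
  obtain ⟨y', hy'⟩ := hφ y
  set u := x' * γ₁ + y' * γ₂ with hu
  have hu1 : (i.app (W₁ ⊔ W₂)).hom u = 1 := by
    rw [hu, map_add, map_mul, map_mul, hx', hy', hγ₁, hγ₂]
    simpa using hxy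
  have huu : IsUnit u := by
    refine Y.toRingedSpace.isUnit_of_isUnit_germ (U := W₁ ⊔ W₂) u fun y hy => ?_
    have hbo : Y.basicOpen u = W₁ ⊔ W₂ := by
      apply eq_of_preimage_eq i hsurj
      rw [Scheme.preimage_basicOpen]
      have : (i.app (W₁ ⊔ W₂)) u = 1 := hu1
      rw [this, Scheme.basicOpen_of_isUnit _ isUnit_one]
    have hy' : y ∈ Y.basicOpen u := by rw [hbo]; exact hy
    exact (Scheme.mem_basicOpen _ _ _ hy).mp hy'
  have hspan : Ideal.span ({γ₁, γ₂} : Set Γ(Y, W₁ ⊔ W₂)) = ⊤ := by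
    refine Ideal.eq_top_of_isUnit_mem _ ?_ huu
    rw [hu]
    exact Ideal.mem_span_pair.mpr ⟨x', y', rfl⟩
  refine isAffineOpen_of_isAffineOpen_basicOpen (W₁ ⊔ W₂) {γ₁, γ₂} hspan ?_
  rintro f (rfl | hf)
  · rw [hb₁]; exact h₁
  · rw [Set.mem_singleton_iff.mp hf, hb₂]; exact h₂


/-- finite unions of good affine opens with basic preimage are affine. -/
theorem isAffineOpen_of_finset_sup (hsurj : Function.Surjective i) (m : ℕ)
    (hm : ∀ U : Y.Opens, IsAffineOpen U → (RingHom.ker (i.app U).hom) ^ m = ⊥) :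
    ∀ (n : ℕ) (s : Finset Y.Opens), s.card ≤ n →
      (∀ V ∈ s, IsAffineOpen V ∧ ∃ h : Γ(Z, ⊤), i ⁻¹ᵁ V = Z.basicOpen h) →
      ∀ (W : Y.Opens) (p : Γ(Z, ⊤)), i ⁻¹ᵁ W = Z.basicOpen p → W = s.sup id →
        IsAffineOpen W := by
  classical
  intro n
  induction n with
  | zero =>
    intro s hs _ W p _ hW
    have : s = ∅ := Finset.card_eq_zero.mp (Nat.le_zero.mp hs)
    rw [hW, this, Finset.sup_empty]
    exact isAffineOpen_bot Y
  | succ n ih =>
    intro s hs hgood W p hp hW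
    rcases s.eq_empty_or_nonempty with hemp | ⟨V₁, hV₁⟩
    · rw [hW, hemp, Finset.sup_empty]
      exact isAffineOpen_bot Y
    set s₀ := s.erase V₁ with hs₀
    have hs₀card : s₀.card ≤ n := by
      rw [hs₀, Finset.card_erase_of_mem hV₁]
      omega
    obtain ⟨hV₁aff, h₁, hh₁⟩ := hgood V₁ hV₁
    -- choice of the functions for the other opens
    let hfun : Y.Opens → Γ(Z, ⊤) := fun V =>
      if hV : V ∈ s then (hgood V hV).2.choose else 0
    have hfun_spec : ∀ V ∈ s, i ⁻¹ᵁ V = Z.basicOpen (hfun V) := by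
      intro V hV
      simp only [hfun, dif_pos hV]
      exact (hgood V hV).2.choose_spec
    set S₀ : Set Γ(Z, ⊤) := hfun '' (s₀ : Set Y.Opens) with hS₀
    -- radical membership
    have hrad : p ∈ (Ideal.span (insert h₁ S₀)).radical := by
      refine mem_radical_of_basicOpen_le Z p _ fun z hz => ?_
      have hzW : i z ∈ W := by
        have : z ∈ i ⁻¹ᵁ W := hp ▸ hz
        exact this
      rw [hW] at hzW
      obtain ⟨V, hVs, hzV⟩ : ∃ V ∈ s, i z ∈ V := by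
        have : (i z) ∈ ((s.sup id : Y.Opens) : Set Y) := hzW
        rw [Finset.sup_eq_iSup] at this
        simp only [id_eq, Opens.coe_iSup, Set.mem_iUnion, SetLike.mem_coe] at this
        obtain ⟨V, hV, h⟩ := this
        exact ⟨V, hV, h⟩
      by_cases hVV₁ : V = V₁
      · refine ⟨h₁, Set.mem_insert _ _, ?_⟩
        rw [← hh₁, ← hVV₁]
        exact hzV
      · refine ⟨hfun V, Set.mem_insert_of_mem _ ⟨V, Finset.mem_erase.mpr ⟨hVV₁, hVs⟩, rfl⟩, ?_⟩
        rw [← hfun_spec V hVs]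
        exact hzV
    obtain ⟨k, hk⟩ := hrad
    obtain ⟨c, g, hg, hcg⟩ := Ideal.mem_span_insert.mp hk
    -- the open `W'` with preimage `D(p * g)`
    obtain ⟨W', hW'⟩ := exists_opens_preimage_eq i hsurj (Z.basicOpen (p * g))
    -- the new family
    set s' := s₀.image (fun V => V ⊓ W') with hs'
    have hs'card : s'.card ≤ n := (Finset.card_image_le).trans hs₀card
    have hgood' : ∀ V' ∈ s', IsAffineOpen V' ∧ ∃ h : Γ(Z, ⊤), i ⁻¹ᵁ V' = Z.basicOpen h := by
      intro V' hV'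
      obtain ⟨V, hVs₀, rfl⟩ := Finset.mem_image.mp hV'
      have hVs : V ∈ s := Finset.mem_of_mem_erase hVs₀
      have hpre : i ⁻¹ᵁ (V ⊓ W') = Z.basicOpen (hfun V * (p * g)) := by
        rw [Scheme.basicOpen_mul, ← hfun_spec V hVs, ← hW']
        rfl
      obtain ⟨β, -, hβ⟩ := isAffineOpen_of_preimage_eq i hsurj V (hgood V hVs).1 (hfun V)
        (hfun_spec V hVs) (p * g) (V ⊓ W') hpre
      exact ⟨hβ ▸ (hgood V hVs).1.basicOpen β, _, hpre⟩
    have hW'sup : W' = s'.sup id := by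
      apply le_antisymm
      · apply le_of_preimage_le i hsurj
        intro z hz
        have hz' : z ∈ Z.basicOpen (p * g) := hW' ▸ hz
        rw [Scheme.basicOpen_mul] at hz'
        obtain ⟨f, ⟨V, hVs₀, rfl⟩, hzf⟩ := exists_mem_basicOpen_of_mem_span Z g S₀ hg z hz'.2
        have hVs : V ∈ s := Finset.mem_of_mem_erase hVs₀
        have hzV : i z ∈ V := by
          have : z ∈ i ⁻¹ᵁ V := (hfun_spec V hVs) ▸ hzf
          exact this
        have hle : V ⊓ W' ≤ s'.sup id :=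
          Finset.le_sup (f := id) (Finset.mem_image.mpr ⟨V, hVs₀, rfl⟩)
        exact hle ⟨hzV, hz⟩
      · refine Finset.sup_le fun V' hV' => ?_
        obtain ⟨V, -, rfl⟩ := Finset.mem_image.mp hV'
        exact inf_le_right
    have hW'aff : IsAffineOpen W' := ih s' hs'card hgood' W' (p * g) hW' hW'sup
    -- `W = V₁ ⊔ W'`
    have hWeq : W = V₁ ⊔ W' := by
      apply eq_of_preimage_eq i hsurj
      apply le_antisymm
      · intro z hz
        have hz' : z ∈ Z.basicOpen p := hp ▸ hz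
        have hzp : p ∉ primeOf Z z := (mem_basicOpen_iff Z z p).mp hz'
        have hzk : p ^ k ∉ primeOf Z z := fun h => hzp (Ideal.IsPrime.mem_of_pow_mem inferInstance k h)
        rw [hcg] at hzk
        by_cases hh : h₁ ∈ primeOf Z z
        · have hgz : g ∉ primeOf Z z := by
            intro hgz
            exact hzk (Ideal.add_mem _ (Ideal.mul_mem_left _ c hh) hgz)
          right
          have : z ∈ Z.basicOpen (p * g) := by
            rw [Scheme.basicOpen_mul]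
            exact ⟨hz', (mem_basicOpen_iff Z z g).mpr hgz⟩
          exact (show z ∈ i ⁻¹ᵁ W' from hW' ▸ this)
        · left
          have : z ∈ Z.basicOpen h₁ := (mem_basicOpen_iff Z z h₁).mpr hh
          exact (show z ∈ i ⁻¹ᵁ V₁ from hh₁ ▸ this)
      · intro z hz
        rcases (show i z ∈ V₁ ⊔ W' from hz) with h | h
        · have : V₁ ≤ W := hW ▸ Finset.le_sup (f := id) hV₁
          exact this h
        · have hz' : z ∈ Z.basicOpen (p * g) := hW' ▸ (show z ∈ i ⁻¹ᵁ W' from h)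
          rw [Scheme.basicOpen_mul] at hz'
          exact (show z ∈ i ⁻¹ᵁ W from hp ▸ hz'.1)
    rw [hWeq]
    exact two_open_isAffineOpen i hsurj m hm V₁ W' hV₁aff hW'aff p h₁ (p * g) hh₁ hW'
      (hWeq ▸ hp)

/-- **Nilpotent thickenings of affine schemes are affine.** -/
theorem isAffine_of_nilpotent (hsurj : Function.Surjective i) (m : ℕ)
    (hm : ∀ U : Y.Opens, IsAffineOpen U → (RingHom.ker (i.app U).hom) ^ m = ⊥) : IsAffine Y := by
  classical
  -- good opens around each point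
  have hloc : ∀ y : Y, ∃ V : Y.Opens, y ∈ V ∧ IsAffineOpen V ∧
      ∃ h : Γ(Z, ⊤), i ⁻¹ᵁ V = Z.basicOpen h := by
    intro y
    obtain ⟨z, rfl⟩ := hsurj y
    obtain ⟨U, hU, hzU⟩ : ∃ U : Y.Opens, IsAffineOpen U ∧ i z ∈ U := by
      obtain ⟨_, ⟨U, hU, rfl⟩, hyU, -⟩ :=
        Y.isBasis_affineOpens.exists_subset_of_mem_open (Set.mem_univ (i z)) isOpen_univ
      exact ⟨U, hU, hyU⟩
    obtain ⟨_, ⟨_, ⟨a, rfl⟩, rfl⟩, hza, haU⟩ := (isBasis_basicOpen Z).exists_subset_of_mem_open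
      (show z ∈ ((i ⁻¹ᵁ U : Z.Opens) : Set Z) from hzU) (i ⁻¹ᵁ U).isOpen
    obtain ⟨β, hβ⟩ := i.app_surjective U hU (resTop Z (i ⁻¹ᵁ U) a)
    have hpre : i ⁻¹ᵁ (Y.basicOpen β) = Z.basicOpen a := by
      rw [Scheme.preimage_basicOpen]
      have : (i.app U) β = resTop Z (i ⁻¹ᵁ U) a := hβ
      rw [this, basicOpen_resTop]
      exact inf_eq_right.mpr haU
    refine ⟨Y.basicOpen β, ?_, hU.basicOpen β, a, hpre⟩
    exact (show z ∈ i ⁻¹ᵁ (Y.basicOpen β) from hpre ▸ hza)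
  choose V hyV hVaff hVpre using hloc
  have : CompactSpace Y := by
    have := (i.isClosedEmbedding.isEmbedding.toHomeomorphOfSurjective hsurj).compactSpace
    exact this
  obtain ⟨t, ht⟩ := isCompact_univ.elim_finite_subcover (fun y => ((V y : Y.Opens) : Set Y))
    (fun y => (V y).isOpen) (fun y _ => Set.mem_iUnion.mpr ⟨y, hyV y⟩)
  have htop : (⊤ : Y.Opens) = (t.image V).sup id := by
    apply le_antisymm
    · intro y _
      obtain ⟨y', hy', hyy'⟩ : ∃ y' ∈ t, y ∈ V y' := by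
        have := ht (Set.mem_univ y)
        simp only [Set.mem_iUnion, SetLike.mem_coe, exists_prop] at this
        exact this
      have hle : V y' ≤ (t.image V).sup id :=
        Finset.le_sup (f := id) (Finset.mem_image.mpr ⟨y', hy', rfl⟩)
      exact hle hyy'
    · exact le_top
  have htopaff : IsAffineOpen (⊤ : Y.Opens) :=
    isAffineOpen_of_finset_sup i hsurj m hm _ (t.image V) le_rfl
      (by
        intro V' hV'
        obtain ⟨y, -, rfl⟩ := Finset.mem_image.mp hV'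
        exact ⟨hVaff y, hVpre y⟩)
      ⊤ 1 (by rw [Scheme.basicOpen_of_isUnit _ isUnit_one]; rfl) htop
  have : IsAffine (⊤ : Y.Opens).toScheme := htopaff
  exact .of_isIso (Scheme.topIso Y).inv

end Groth.Agent.Lib.Helper39.ThickAff
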