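import Groth.Agent.Lib.Helper39.ThickAff.Hom

/-!
# Quasi-affineness and thickenings (helper39)

`exists_pow_lift`: along a surjective closed immersion `i : Z ⟶ X` with `X` qcqs, some positive
power of a global function `g` on `Z` with affine `Z_g` lifts to `X`.
`isQuasiAffine_of_thickening`: `Z` quasi-affine implies `X` quasi-affine.
-/

set_option autoImplicit false
universe u
open AlgebraicGeometry CategoryTheory TopologicalSpace Opposite

namespace Groth.Agent.Lib.Helper39.ThickAff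

/-- ring lemma 1: powers of `x + y` stay in a subring once `x ∈ S`, `x ^ k * y ∈ S`, `y` nilpotent. -/
theorem add_pow_mem_subring {R : Type*} [CommRing R] (S : Subring R) (x y : R) (k e : ℕ)
    (hx : x ∈ S) (hxy : x ^ k * y ∈ S) (hy : y ^ e = 0) (n : ℕ) (hn : (k + 1) * e ≤ n) :
    (x + y) ^ n ∈ S := by
  rw [add_pow]
  refine Subring.sum_mem S fun m hm => ?_
  have hmn : m ≤ n := Nat.lt_succ_iff.mp (Finset.mem_range.mp hm)
  refine Subring.mul_mem S ?_ (natCast_mem S _)
  by_cases hb : e ≤ n - m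
  · have : y ^ (n - m) = 0 := by
      rw [← Nat.sub_add_cancel hb, pow_add, hy, mul_zero]
    rw [this, mul_zero]
    exact Subring.zero_mem S
  · have hb' : n - m < e := Nat.lt_of_not_le hb
    have hkb : k * (n - m) ≤ m := by
      have h1 : k * (n - m) ≤ k * e := Nat.mul_le_mul_left k hb'.le
      have h2 : (k + 1) * e = k * e + e := by ring
      omega
    have : x ^ m * y ^ (n - m) = x ^ (m - k * (n - m)) * (x ^ k * y) ^ (n - m) := by
      rw [mul_pow, ← pow_mul, ← mul_assoc, ← pow_add, Nat.sub_add_cancel hkb]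
    rw [this]
    exact Subring.mul_mem S (Subring.pow_mem S hx _) (Subring.pow_mem S hxy _)

/-- ring lemma 2. -/
theorem add_pow_eq_pow {R : Type*} [CommRing R] (x d : R) (l e : ℕ) (h1 : x ^ l * d = 0)
    (h2 : d ^ e = 0) (n : ℕ) (hn : l + e ≤ n) : (x + d) ^ n = x ^ n := by
  rw [add_pow]
  rw [Finset.sum_eq_single n]
  · simp
  · intro m hm hmn
    have hmn' : m < n := lt_of_le_of_ne (Nat.lt_succ_iff.mp (Finset.mem_range.mp hm)) hmn
    by_cases hb : e ≤ n - m
    · have : d ^ (n - m) = 0 := by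
        rw [← Nat.sub_add_cancel hb, pow_add, h2, mul_zero]
      rw [this, mul_zero, zero_mul]
    · have hb' : n - m < e := Nat.lt_of_not_le hb
      have hl : l ≤ m := by omega
      have hb1 : 1 ≤ n - m := by omega
      have : x ^ m * d ^ (n - m) = x ^ (m - l) * (x ^ l * d) * d ^ (n - m - 1) := by
        have e1 : x ^ m = x ^ (m - l) * x ^ l := by rw [← pow_add, Nat.sub_add_cancel hl]
        have e2 : d ^ (n - m) = d * d ^ (n - m - 1) := by
          rw [← pow_succ', Nat.sub_add_cancel hb1]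
        rw [e1, e2]; ring
      rw [this, h1, mul_zero, zero_mul, zero_mul]
  · intro h
    exact absurd (Finset.mem_range.mpr (Nat.lt_succ_self n)) h

variable {Z X : Scheme.{u}} (i : Z ⟶ X) [IsClosedImmersion i]

/-- chart extension: large powers of the lift `fU` over `U` extend over any affine open `V`. -/
theorem exists_extension (hi : Function.Surjective i) (g : Γ(Z, ⊤)) (U : X.Opens)
    (hpre : i ⁻¹ᵁ U = Z.basicOpen g) (fU : Γ(X, U))
    (hfU : (i.app U).hom fU = resTop Z (i ⁻¹ᵁ U) g) (V : X.Opens) (hV : IsAffineOpen V) :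
    ∃ n₀ : ℕ, ∀ n, n₀ ≤ n → ∃ a : Γ(X, V),
      (i.app V).hom a = (resTop Z (i ⁻¹ᵁ V) g) ^ n ∧
      (X.presheaf.map (homOfLE (inf_le_left : V ⊓ U ≤ V)).op).hom a =
        ((X.presheaf.map (homOfLE (inf_le_right : V ⊓ U ≤ U)).op).hom fU) ^ n := by
  obtain ⟨f, hf⟩ := i.app_surjective V hV (resTop Z (i ⁻¹ᵁ V) g)
  have hf' : (i.app V).hom f = resTop Z (i ⁻¹ᵁ V) g := hf
  -- `V ⊓ U` is the basic open of `f`
  have hW : V ⊓ U = X.basicOpen f := by
    apply eq_of_preimage_eq i hi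
    rw [Scheme.preimage_basicOpen]
    have : (i.app V) f = resTop Z (i ⁻¹ᵁ V) g := hf
    rw [this, basicOpen_resTop, ← hpre]
    rfl
  set W := V ⊓ U with hWdef
  set rV := (X.presheaf.map (homOfLE (inf_le_left : W ≤ V)).op).hom with hrV
  set rU := (X.presheaf.map (homOfLE (inf_le_right : W ≤ U)).op).hom with hrU
  set μ := rU fU - rV f with hμdef
  have hμ : (i.app W).hom μ = 0 := by
    rw [hμdef, map_sub, sub_eq_zero, hrU, hrV, app_res i inf_le_right, app_res i inf_le_left,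
      hfU, hf', res_resTop, res_resTop]
  obtain ⟨k, c, hc0, hc⟩ := exists_pow_mul_mem_ker i V hV f W hW inf_le_left μ hμ
  have hWc : IsCompact (W : Set X) := by
    rw [hW]; exact (hV.basicOpen f).isCompact
  obtain ⟨e, he⟩ := isNilpotent_of_app_eq_zero i hi W hWc μ hμ
  -- the product ring
  let ρ : Γ(X, V) →+* Γ(X, W) × Γ(Z, i ⁻¹ᵁ V) := RingHom.prod rV (i.app V).hom
  have hx : ρ f ∈ ρ.range := ⟨f, rfl⟩
  have hxy : (ρ f) ^ k * ((μ, 0) : Γ(X, W) × Γ(Z, i ⁻¹ᵁ V)) ∈ ρ.range := by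
    refine ⟨c, ?_⟩
    ext
    · simp only [ρ, RingHom.prod_apply, Prod.fst_mul, Prod.pow_fst]
      exact hc
    · simp only [ρ, RingHom.prod_apply, Prod.snd_mul, Prod.pow_snd, mul_zero]
      exact hc0
  have hy : ((μ, 0) : Γ(X, W) × Γ(Z, i ⁻¹ᵁ V)) ^ (e + 1) = 0 := by
    rw [Prod.pow_mk, pow_succ μ, he, zero_mul, zero_pow (Nat.succ_ne_zero e)]
    rfl
  refine ⟨(k + 1) * (e + 1), fun n hn => ?_⟩
  obtain ⟨a, ha⟩ := add_pow_mem_subring ρ.range (ρ f) (μ, 0) k (e + 1) hx hxy hy n hn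
  have hsum : ρ f + ((μ, 0) : Γ(X, W) × Γ(Z, i ⁻¹ᵁ V)) = (rU fU, resTop Z (i ⁻¹ᵁ V) g) := by
    ext
    · simp only [ρ, RingHom.prod_apply, Prod.fst_add, hμdef]
      ring
    · simp only [ρ, RingHom.prod_apply, Prod.snd_add, add_zero]
      exact hf'
  rw [hsum] at ha
  refine ⟨a, ?_, ?_⟩
  · have := congrArg Prod.snd ha
    simpa [ρ] using this
  · have := congrArg Prod.fst ha
    simpa [ρ] using this

/-- **power lifting**: along a thickening of a qcqs scheme, some positive power of a function with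
affine non-vanishing locus lifts. -/
theorem exists_pow_lift (hi : Function.Surjective i) [CompactSpace X] [QuasiSeparatedSpace X]
    (g : Γ(Z, ⊤)) (hg : IsAffineOpen (Z.basicOpen g)) :
    ∃ (n : ℕ) (r : Γ(X, ⊤)), 0 < n ∧ i.appTop.hom r = g ^ n := by
  classical
  obtain ⟨U, hpre⟩ := exists_opens_preimage_eq i hi (Z.basicOpen g)
  have hU : IsAffineOpen U := isAffineOpen_of_thickening i hi U (hpre ▸ hg)
  obtain ⟨fU, hfU⟩ := i.app_surjective U hU (resTop Z (i ⁻¹ᵁ U) g)
  have hfU' : (i.app U).hom fU = resTop Z (i ⁻¹ᵁ U) g := hfU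
  -- affine cover
  have hloc : ∀ x : X, ∃ V : X.Opens, IsAffineOpen V ∧ x ∈ V := by
    intro x
    obtain ⟨_, ⟨V, hV, rfl⟩, hxV, -⟩ :=
      X.isBasis_affineOpens.exists_subset_of_mem_open (Set.mem_univ x) isOpen_univ
    exact ⟨V, hV, hxV⟩
  choose V hVaff hxV using hloc
  obtain ⟨T, hT⟩ := isCompact_univ.elim_finite_subcover (fun y => ((V y : X.Opens) : Set X))
    (fun y => (V y).isOpen) (fun y _ => Set.mem_iUnion.mpr ⟨y, hxV y⟩)
  have hcov : ∀ x : X, ∃ y ∈ T, x ∈ V y := by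
    intro x
    have := hT (Set.mem_univ x)
    simp only [Set.mem_iUnion, SetLike.mem_coe, exists_prop] at this
    exact this
  -- chart extensions
  have hext := fun y => exists_extension i hi g U hpre fU hfU' (V y) (hVaff y)
  choose n₀ hn₀ using hext
  set n := T.sup n₀ + 1 with hn
  have hn₀n : ∀ y ∈ T, n₀ y ≤ n := fun y hy => (Finset.le_sup (f := n₀) hy).trans (Nat.le_succ _)
  have hF : ∀ y : T, ∃ a : Γ(X, V y.1),
      (i.app (V y.1)).hom a = (resTop Z (i ⁻¹ᵁ V y.1) g) ^ n ∧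
      (X.presheaf.map (homOfLE (inf_le_left : V y.1 ⊓ U ≤ V y.1)).op).hom a =
        ((X.presheaf.map (homOfLE (inf_le_right : V y.1 ⊓ U ≤ U)).op).hom fU) ^ n :=
    fun y => hn₀ y.1 n (hn₀n y.1 y.2)
  choose F hF1 hF2 using hF
  -- the basic open of `F y`
  have hbo : ∀ y : T, X.basicOpen (F y) = V y.1 ⊓ U := by
    intro y
    apply eq_of_preimage_eq i hi
    rw [Scheme.preimage_basicOpen]
    have : (i.app (V y.1)) (F y) = (resTop Z (i ⁻¹ᵁ V y.1) g) ^ n := hF1 y
    rw [this, Scheme.basicOpen_pow _ _ (Nat.succ_pos _), basicOpen_resTop, ← hpre]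
    rfl
  -- overlaps
  have hov : ∀ y z : T, ∃ m₀ : ℕ, ∀ m, m₀ ≤ m →
      ((X.presheaf.map (homOfLE (inf_le_right : V y.1 ⊓ V z.1 ≤ V z.1)).op).hom (F z)) ^ m =
      ((X.presheaf.map (homOfLE (inf_le_left : V y.1 ⊓ V z.1 ≤ V y.1)).op).hom (F y)) ^ m := by
    intro y z
    set O := V y.1 ⊓ V z.1 with hO
    set x := (X.presheaf.map (homOfLE (inf_le_left : O ≤ V y.1)).op).hom (F y) with hx
    set d := (X.presheaf.map (homOfLE (inf_le_right : O ≤ V z.1)).op).hom (F z) - x with hd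
    have hOc : IsCompact (O : Set X) :=
      QuasiSeparatedSpace.inter_isCompact _ _ (V y.1).isOpen (hVaff y.1).isCompact
        (V z.1).isOpen (hVaff z.1).isCompact
    have hd0 : (i.app O).hom d = 0 := by
      rw [hd, hx, map_sub, sub_eq_zero, app_res i inf_le_right, app_res i inf_le_left, hF1, hF1,
        map_pow, map_pow, res_resTop, res_resTop]
    obtain ⟨e, he⟩ := isNilpotent_of_app_eq_zero i hi O hOc d hd0
    -- `d` vanishes on the basic open of `x`
    have hbx : X.basicOpen x = O ⊓ (V y.1 ⊓ U) := by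
      rw [hx, Scheme.basicOpen_res, hbo]
    have hB1 : X.basicOpen x ≤ V y.1 ⊓ U := hbx ▸ inf_le_right
    have hB2 : X.basicOpen x ≤ V z.1 ⊓ U := by
      rw [hbx]
      exact le_inf (inf_le_left.trans inf_le_right) (inf_le_right.trans inf_le_right)
    have hres : (X.presheaf.map (homOfLE (X.basicOpen_le x)).op).hom d = 0 := by
      rw [hd, hx, map_sub, sub_eq_zero, res_res, res_res]
      have e1 : (X.presheaf.map (homOfLE ((X.basicOpen_le x).trans
            (inf_le_right : O ≤ V z.1))).op).hom (F z) =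
          (X.presheaf.map (homOfLE hB2).op).hom
            ((X.presheaf.map (homOfLE (inf_le_left : V z.1 ⊓ U ≤ V z.1)).op).hom (F z)) := by
        rw [res_res]
      have e2 : (X.presheaf.map (homOfLE ((X.basicOpen_le x).trans
            (inf_le_left : O ≤ V y.1))).op).hom (F y) =
          (X.presheaf.map (homOfLE hB1).op).hom
            ((X.presheaf.map (homOfLE (inf_le_left : V y.1 ⊓ U ≤ V y.1)).op).hom (F y)) := by
        rw [res_res]
      rw [e1, e2, hF2, hF2, map_pow, map_pow, res_res, res_res]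
    obtain ⟨l, hl⟩ := exists_pow_mul_eq_zero_of_res_basicOpen_eq_zero_of_isCompact X hOc d x hres
    refine ⟨l + e, fun m hm => ?_⟩
    have := add_pow_eq_pow x d l e hl he m hm
    rw [hd, add_sub_cancel] at this
    exact this
  choose m₀ hm₀ using hov
  set m := (Finset.univ.sup fun p : T × T => m₀ p.1 p.2) + 1 with hm
  have hm₀m : ∀ y z : T, m₀ y z ≤ m := fun y z =>
    (Finset.le_sup (f := fun p : T × T => m₀ p.1 p.2) (Finset.mem_univ (y, z))).trans
      (Nat.le_succ _)
  -- gluing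
  obtain ⟨r, hr⟩ := scheme_glue X (fun y : T => V y.1) ⊤ (fun _ => le_top)
    (by
      intro x _
      obtain ⟨y, hy, hxy⟩ := hcov x
      exact Opens.mem_iSup.mpr ⟨⟨y, hy⟩, hxy⟩)
    (fun y => F y ^ m)
    (by
      intro y z
      rw [map_pow, map_pow]
      exact (hm₀ y z m (hm₀m y z)).symm)
  refine ⟨n * m, r, Nat.mul_pos (Nat.succ_pos _) (Nat.succ_pos _), ?_⟩
  refine scheme_sep Z (fun y : T => i ⁻¹ᵁ V y.1) ⊤ (fun _ => le_top) ?_ _ _ ?_
  · intro z _
    obtain ⟨y, hy, hzy⟩ := hcov (i z)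
    exact Opens.mem_iSup.mpr ⟨⟨y, hy⟩, hzy⟩
  · intro y
    have h1 := app_res i (le_top : V y.1 ≤ ⊤) r
    rw [hr y, map_pow, hF1, ← pow_mul] at h1
    rw [map_pow]
    exact h1.symm

/-- a scheme admitting a surjective closed immersion from a quasi-affine scheme is quasi-affine. -/
theorem isQuasiAffine_of_thickening (hi : Function.Surjective i) [Z.IsQuasiAffine] :
    X.IsQuasiAffine := by
  have hc : CompactSpace X := compactSpace_of_surjective i hi
  have hq : QuasiSeparatedSpace X := quasiSeparatedSpace_of_surjective i hi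
  refine Scheme.IsQuasiAffine.of_forall_exists_mem_basicOpen X fun x => ?_
  obtain ⟨z, rfl⟩ := hi x
  obtain ⟨_, ⟨_, ⟨g, hg, rfl⟩, rfl⟩, hzg, -⟩ := (Scheme.IsQuasiAffine.isBasis_basicOpen
    Z).exists_subset_of_mem_open (Set.mem_univ z) isOpen_univ
  obtain ⟨n, r, hn, hr⟩ := exists_pow_lift i hi g hg
  have hpre : i ⁻¹ᵁ (X.basicOpen r) = Z.basicOpen g := by
    rw [Scheme.preimage_basicOpen]
    have : (i.app ⊤) r = g ^ n := hr
    have h2 : Z.basicOpen (g ^ n) = Z.basicOpen g := Scheme.basicOpen_pow _ _ hn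
    rw [this]
    exact h2
  refine ⟨r, isAffineOpen_of_thickening i hi _ (hpre ▸ hg), ?_⟩
  exact (show z ∈ i ⁻¹ᵁ (X.basicOpen r) from hpre ▸ hzg)

end Groth.Agent.Lib.Helper39.ThickAff
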