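import Groth.Agent.Lib.Helper39.ThickAff.Basic

/-!
# Thickenings of affine schemes: the two-open lifting lemma (helper39)
-/

set_option autoImplicit false
universe u
open AlgebraicGeometry CategoryTheory TopologicalSpace Opposite

namespace Groth.Agent.Lib.Helper39.ThickAff

theorem res_res (X : Scheme.{u}) {U V W : X.Opens} (h₁ : U ≤ V) (h₂ : V ≤ W) (x : Γ(X, W)) :
    (X.presheaf.map (homOfLE h₁).op).hom ((X.presheaf.map (homOfLE h₂).op).hom x) =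
      (X.presheaf.map (homOfLE (h₁.trans h₂)).op).hom x := by
  change (X.presheaf.map (homOfLE h₂).op ≫ X.presheaf.map (homOfLE h₁).op).hom x = _
  rw [← Functor.map_comp]
  rfl

variable {Z Y : Scheme.{u}} (i : Z ⟶ Y)

theorem pre_le {V W : Y.Opens} (h : V ≤ W) : i ⁻¹ᵁ V ≤ i ⁻¹ᵁ W := fun _ hz => h hz

/-- `i.app` of a restriction, in terms of `resTop`. -/
theorem res_resTop {V W : Z.Opens} (h : V ≤ W) (q : Γ(Z, ⊤)) :
    (Z.presheaf.map (homOfLE h).op).hom (resTop Z W q) = resTop Z V q :=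
  res_res Z h le_top q

variable [IsClosedImmersion i] [IsAffine Z]

theorem exists_partition (V : Z.Opens) (p p₁ p₂ : Γ(Z, ⊤)) (e : V = Z.basicOpen p)
    (hcov : V ≤ Z.basicOpen p₁ ⊔ Z.basicOpen p₂) (N : ℕ) :
    ∃ x y : Γ(Z, V), x * (resTop Z V p₁) ^ N + y * (resTop Z V p₂) ^ N = 1 := by
  have hV : IsAffineOpen V := e ▸ (isAffineOpen_top Z).basicOpen p
  have h := (hV.iSup_basicOpen_eq_self_iff
    (s := ({(resTop Z V p₁) ^ N, (resTop Z V p₂) ^ N} : Set Γ(Z, V)))).mp ?_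
  · have h1 : (1 : Γ(Z, V)) ∈ Ideal.span
        ({(resTop Z V p₁) ^ N, (resTop Z V p₂) ^ N} : Set Γ(Z, V)) := by
      rw [h]; trivial
    obtain ⟨x, y, hxy⟩ := Ideal.mem_span_pair.mp h1
    exact ⟨x, y, hxy⟩
  · apply le_antisymm
    · exact iSup_le fun f => Z.basicOpen_le _
    · intro z hz
      rcases hcov hz with hz1 | hz2
      · refine Opens.mem_iSup.mpr ⟨⟨(resTop Z V p₁) ^ N, Or.inl rfl⟩, ?_⟩
        change z ∈ Z.basicOpen ((resTop Z V p₁) ^ N)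
        rcases Nat.eq_zero_or_pos N with hN | hN
        · rw [hN, pow_zero, Scheme.basicOpen_of_isUnit _ isUnit_one]
          exact hz
        · rw [Scheme.basicOpen_pow _ _ hN, basicOpen_resTop]
          exact ⟨hz, hz1⟩
      · refine Opens.mem_iSup.mpr ⟨⟨(resTop Z V p₂) ^ N, Or.inr rfl⟩, ?_⟩
        change z ∈ Z.basicOpen ((resTop Z V p₂) ^ N)
        rcases Nat.eq_zero_or_pos N with hN | hN
        · rw [hN, pow_zero, Scheme.basicOpen_of_isUnit _ isUnit_one]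
          exact hz
        · rw [Scheme.basicOpen_pow _ _ hN, basicOpen_resTop]
          exact ⟨hz, hz2⟩


/-- **two-open lifting**: sections lift along a nilpotent thickening over the union of two
affine opens whose preimages (and the preimage of the union) are basic opens. -/
theorem two_open_surjective (hsurj : Function.Surjective i) (m : ℕ)
    (hm : ∀ U : Y.Opens, IsAffineOpen U → (RingHom.ker (i.app U).hom) ^ m = ⊥)
    (W₁ W₂ : Y.Opens) (h₁ : IsAffineOpen W₁) (h₂ : IsAffineOpen W₂) (p p₁ p₂ : Γ(Z, ⊤))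
    (e₁ : i ⁻¹ᵁ W₁ = Z.basicOpen p₁) (e₂ : i ⁻¹ᵁ W₂ = Z.basicOpen p₂)
    (e : i ⁻¹ᵁ (W₁ ⊔ W₂) = Z.basicOpen p) :
    Function.Surjective (i.app (W₁ ⊔ W₂)).hom := by
  intro f
  -- the intersection
  have hpre12 : i ⁻¹ᵁ (W₁ ⊓ W₂) = Z.basicOpen (p₁ * p₂) := by
    rw [Scheme.basicOpen_mul, ← e₁, ← e₂]
    rfl
  have hpre21 : i ⁻¹ᵁ (W₁ ⊓ W₂) = Z.basicOpen (p₂ * p₁) := by rw [mul_comm]; exact hpre12
  obtain ⟨β₁, hβ₁, hW₁⟩ := isAffineOpen_of_preimage_eq i hsurj W₁ h₁ p₁ e₁ p₂ (W₁ ⊓ W₂) hpre12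
  obtain ⟨β₂, hβ₂, hW₂⟩ := isAffineOpen_of_preimage_eq i hsurj W₂ h₂ p₂ e₂ p₁ (W₁ ⊓ W₂) hpre21
  have h12 : IsAffineOpen (W₁ ⊓ W₂) := hW₁ ▸ h₁.basicOpen β₁
  set r₁ := (Y.presheaf.map (homOfLE (inf_le_left : W₁ ⊓ W₂ ≤ W₁)).op).hom with hr₁
  set r₂ := (Y.presheaf.map (homOfLE (inf_le_right : W₁ ⊓ W₂ ≤ W₂)).op).hom with hr₂
  set K := RingHom.ker (i.app (W₁ ⊓ W₂)).hom with hK
  -- restrictions of `f`
  set f₁ := (Z.presheaf.map (homOfLE (pre_le i (le_sup_left : W₁ ≤ W₁ ⊔ W₂))).op).hom f with hf₁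
  set f₂ := (Z.presheaf.map (homOfLE (pre_le i (le_sup_right : W₂ ≤ W₁ ⊔ W₂))).op).hom f with hf₂
  -- images of `r₁ β₁`, `r₂ β₂`
  have hrβ₁ : (i.app (W₁ ⊓ W₂)).hom (r₁ β₁) = resTop Z (i ⁻¹ᵁ (W₁ ⊓ W₂)) p₂ := by
    rw [hr₁, app_res i inf_le_left β₁, hβ₁, res_resTop]
  have hrβ₂ : (i.app (W₁ ⊓ W₂)).hom (r₂ β₂) = resTop Z (i ⁻¹ᵁ (W₁ ⊓ W₂)) p₁ := by
    rw [hr₂, app_res i inf_le_right β₂, hβ₂, res_resTop]
  have key : ∀ k : ℕ, 1 ≤ k → ∃ (g₁ : Γ(Y, W₁)) (g₂ : Γ(Y, W₂)),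
      (i.app W₁).hom g₁ = f₁ ∧ (i.app W₂).hom g₂ = f₂ ∧ r₁ g₁ - r₂ g₂ ∈ K ^ k := by
    intro k hk
    induction k, hk using Nat.le_induction with
    | base =>
      obtain ⟨g₁, hg₁⟩ := i.app_surjective W₁ h₁ f₁
      obtain ⟨g₂, hg₂⟩ := i.app_surjective W₂ h₂ f₂
      refine ⟨g₁, g₂, hg₁, hg₂, ?_⟩
      rw [pow_one, hK, RingHom.mem_ker, map_sub, hr₁, hr₂, app_res i inf_le_left g₁,
        app_res i inf_le_right g₂]
      have e1 : (i.app W₁).hom g₁ = f₁ := hg₁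
      have e2 : (i.app W₂).hom g₂ = f₂ := hg₂
      rw [e1, e2, hf₁, hf₂, res_res, res_res, sub_self]
    | succ k hk ih =>
      obtain ⟨g₁, g₂, hg₁, hg₂, hν⟩ := ih
      set ν := r₁ g₁ - r₂ g₂ with hνdef
      have hνK : (i.app (W₁ ⊓ W₂)).hom ν = 0 := by
        have : K ^ k ≤ K := Ideal.pow_le_self (by omega)
        exact this hν
      obtain ⟨n₁, m₁, hm₁, hm₁'⟩ :=
        exists_pow_mul_mem_ker i W₁ h₁ β₁ (W₁ ⊓ W₂) hW₁ inf_le_left ν hνK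
      obtain ⟨n₂, m₂, hm₂, hm₂'⟩ :=
        exists_pow_mul_mem_ker i W₂ h₂ β₂ (W₁ ⊓ W₂) hW₂ inf_le_right ν hνK
      obtain ⟨x, y, hxy⟩ := exists_partition (i ⁻¹ᵁ (W₁ ⊔ W₂)) p p₁ p₂ e
        (by
          intro z hz
          rcases (show i z ∈ W₁ ⊔ W₂ from hz) with h | h
          · exact Or.inl (e₁ ▸ (show z ∈ i ⁻¹ᵁ W₁ from h))
          · exact Or.inr (e₂ ▸ (show z ∈ i ⁻¹ᵁ W₂ from h))) (n₁ + n₂)
      obtain ⟨x', hx'⟩ := i.app_surjective W₂ h₂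
        ((Z.presheaf.map (homOfLE (pre_le i (le_sup_right : W₂ ≤ W₁ ⊔ W₂))).op).hom x)
      obtain ⟨y', hy'⟩ := i.app_surjective W₁ h₁
        ((Z.presheaf.map (homOfLE (pre_le i (le_sup_left : W₁ ≤ W₁ ⊔ W₂))).op).hom y)
      have hx'' : (i.app W₂).hom x' =
        (Z.presheaf.map (homOfLE (pre_le i (le_sup_right : W₂ ≤ W₁ ⊔ W₂))).op).hom x := hx'
      have hy'' : (i.app W₁).hom y' =
        (Z.presheaf.map (homOfLE (pre_le i (le_sup_left : W₁ ≤ W₁ ⊔ W₂))).op).hom y := hy'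
      refine ⟨g₁ - y' * β₁ ^ n₂ * m₁, g₂ + x' * β₂ ^ n₁ * m₂, ?_, ?_, ?_⟩
      · rw [map_sub, map_mul, hm₁, mul_zero, sub_zero, hg₁]
      · rw [map_add, map_mul, hm₂, mul_zero, add_zero, hg₂]
      · -- the new difference is `(1 - u) * ν`
        set u := r₁ y' * r₁ β₁ ^ (n₁ + n₂) + r₂ x' * r₂ β₂ ^ (n₁ + n₂) with hu
        have hdiff : r₁ (g₁ - y' * β₁ ^ n₂ * m₁) - r₂ (g₂ + x' * β₂ ^ n₁ * m₂) = (1 - u) * ν := by
          simp only [map_sub, map_add, map_mul, map_pow]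
          rw [hm₁', hm₂', hu, hνdef]
          ring
        rw [hdiff, pow_succ']
        refine Ideal.mul_mem_mul ?_ hν
        rw [hK, RingHom.mem_ker, map_sub, map_one, hu, map_add, map_mul, map_mul, map_pow, map_pow,
          hrβ₁, hrβ₂, hr₁, hr₂, app_res i inf_le_left y', app_res i inf_le_right x', hy'', hx'',
          res_res, res_res]
        have h3 := congrArg (Z.presheaf.map (homOfLE (pre_le i
          (inf_le_left.trans le_sup_left : W₁ ⊓ W₂ ≤ W₁ ⊔ W₂))).op).hom hxy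
        simp only [map_add, map_mul, map_pow, map_one, res_resTop] at h3
        rw [sub_eq_zero, ← h3]
        ring
  obtain ⟨g₁, g₂, hg₁, hg₂, hν⟩ := key (m + 1) (by omega)
  have hzero : r₁ g₁ = r₂ g₂ := by
    have h1 : K ^ (m + 1) ≤ K ^ m := Ideal.pow_le_pow_right (by omega)
    have h2 := h1 hν
    rw [hK, hm _ h12, Ideal.mem_bot, sub_eq_zero] at h2
    exact h2
  -- glue
  let x : RingHom.eqLocus
      ((Y.sheaf.1.map (homOfLE (inf_le_left : W₁ ⊓ W₂ ≤ W₁)).op).hom.comp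
        (RingHom.fst Γ(Y, W₁) Γ(Y, W₂)))
      ((Y.sheaf.1.map (homOfLE (inf_le_right : W₁ ⊓ W₂ ≤ W₂)).op).hom.comp
        (RingHom.snd Γ(Y, W₁) Γ(Y, W₂))) := ⟨(g₁, g₂), hzero⟩
  let g : Γ(Y, W₁ ⊔ W₂) := (Y.sheaf.objSupIsoProdEqLocus W₁ W₂).inv x
  have hgl₁ : (Y.presheaf.map (homOfLE (le_sup_left : W₁ ≤ W₁ ⊔ W₂)).op).hom g = g₁ :=
    TopCat.Sheaf.objSupIsoProdEqLocus_inv_fst Y.sheaf W₁ W₂ x
  have hgl₂ : (Y.presheaf.map (homOfLE (le_sup_right : W₂ ≤ W₁ ⊔ W₂)).op).hom g = g₂ :=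
    TopCat.Sheaf.objSupIsoProdEqLocus_inv_snd Y.sheaf W₁ W₂ x
  refine ⟨g, ?_⟩
  refine TopCat.Sheaf.eq_of_locally_eq₂ Z.sheaf
    (homOfLE (pre_le i (le_sup_left : W₁ ≤ W₁ ⊔ W₂)))
    (homOfLE (pre_le i (le_sup_right : W₂ ≤ W₁ ⊔ W₂))) ?_ _ _ ?_ ?_
  · intro z hz
    exact hz
  · have := app_res i (le_sup_left : W₁ ≤ W₁ ⊔ W₂) g
    rw [hgl₁, hg₁] at this
    exact this.symm
  · have := app_res i (le_sup_right : W₂ ≤ W₁ ⊔ W₂) g
    rw [hgl₂, hg₂] at this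
    exact this.symm

end Groth.Agent.Lib.Helper39.ThickAff
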